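import Groth.Agent.PicCurve.BaseChange
import Groth.Agent.PicCurve.Alb.Classes

/-!
# The Jacobian after an extension of the ground field
-/

noncomputable section

set_option autoImplicit false
set_option linter.style.haveILetI false
set_option linter.unusedSectionVars false
set_option backward.isDefEq.respectTransparency false
set_option backward.isDefEq.respectTransparency.types false
set_option maxHeartbeats 1000000
set_option synthInstance.maxHeartbeats 400000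
attribute [-instance] CategoryTheory.catToReflQuiver

universe u

open CategoryTheory CategoryTheory.Limits AlgebraicGeometry TopologicalSpace Opposite
  MonoidalCategory CartesianMonoidalCategory
open scoped MonObj
open Groth.Agent.H23.PicMul

namespace Groth.Agent.PicCurve.Ext

open RepDescent (below)
open Alb HilbDLib

variable {k L : Type u} [Field k] [Field L] {X : Scheme.{u}} (f : X ⟶ Spec (CommRingCat.of k))
  (ρ : Spec (CommRingCat.of L) ⟶ Spec (CommRingCat.of k))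

/-- a point of the curve over the extension, as a point of the curve -/
abbrev lowX {T : Over (Spec (CommRingCat.of L))} (x : T ⟶ Over.mk (fL f ρ)) : below ρ T ⟶ Over.mk f :=
  Over.homMk (x.left ≫ pullback.fst f ρ) (by
    show (x.left ≫ pullback.fst f ρ) ≫ f = T.hom ≫ ρ
    rw [Category.assoc, pullback.condition, ← Category.assoc]
    exact congrArg (· ≫ ρ) (Over.w x))

theorem lowX_injective {T : Over (Spec (CommRingCat.of L))} : Function.Injective (lowX f ρ (T := T)) :=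
  fun x y h => Over.OverMorphism.ext (pullback.hom_ext (congr($(h).left)) ((Over.w x).trans (Over.w y).symm))

theorem lowX_surjective {T : Over (Spec (CommRingCat.of L))} (y : below ρ T ⟶ Over.mk f) :
    ∃ x : T ⟶ Over.mk (fL f ρ), lowX f ρ x = y :=
  ⟨Over.homMk (pullback.lift y.left T.hom (Over.w y)) (pullback.lift_snd _ _ _),
    Over.OverMorphism.ext (pullback.lift_fst _ _ _)⟩

variable (J : Over (Spec (CommRingCat.of k)))

/-- a scheme over the ground field, over the extension -/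
abbrev up : Over (Spec (CommRingCat.of L)) := Over.mk (pullback.snd J.hom ρ)

/-- the projection -/
abbrev upPr : below ρ (up ρ J) ⟶ J :=
  Over.homMk (pullback.fst J.hom ρ) pullback.condition

/-- a point over the extension, as a point over the ground field -/
abbrev low {T : Over (Spec (CommRingCat.of L))} (g : T ⟶ up ρ J) : below ρ T ⟶ J := bmap ρ g ≫ upPr ρ J

theorem low_comp {T T' : Over (Spec (CommRingCat.of L))} (q : T' ⟶ T) (g : T ⟶ up ρ J) :
    low ρ J (q ≫ g) = bmap ρ q ≫ low ρ J g :=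
  Over.OverMorphism.ext (Category.assoc _ _ _)

theorem low_injective {T : Over (Spec (CommRingCat.of L))} : Function.Injective (low ρ J (T := T)) :=
  fun g g' h => Over.OverMorphism.ext (pullback.hom_ext (congr($(h).left)) ((Over.w g).trans (Over.w g').symm))

theorem low_surjective {T : Over (Spec (CommRingCat.of L))} (y : below ρ T ⟶ J) : ∃ g : T ⟶ up ρ J, low ρ J g = y :=
  ⟨Over.homMk (pullback.lift y.left T.hom (Over.w y)) (pullback.lift_snd _ _ _),
    Over.OverMorphism.ext (pullback.lift_fst _ _ _)⟩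

variable [IsProper f] [Smooth f] [SmoothOfRelativeDimension 1 f] [GeometricallyIntegral f] [IsIntegral X]
  [SmoothOfRelativeDimension 1 (fL f ρ)] [IsIntegral (pullback f ρ)]
  (hdim : topologicalKrullDim X = 1) (hdimL : topologicalKrullDim ↥(pullback f ρ) = 1)
  (σ : Spec (CommRingCat.of k) ⟶ X) (hσ : σ ≫ f = 𝟙 _)
  (ξ : PicF.Rig f σ hσ J) (hξ : FGA.HasFibreDegreeZeroCl f J ξ.1)
  (huniv : ∀ (T : Over (Spec (CommRingCat.of k))) (c : PicF.Rig f σ hσ T), FGA.HasFibreDegreeZeroCl f T c.1 →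
    ∃! g : T ⟶ J, PicF.pullCl (PicF.XTmap f g) ξ.1 = c.1)

/-- the universal class over the extension -/
def ξL : PicF.Rig (fL f ρ) (σL f ρ σ hσ) (hσL f ρ σ hσ) (up ρ J) :=
  ofBelow f ρ σ hσ (rigPull f σ hσ (upPr ρ J) ξ)

theorem toBelow_pull_ξL {T : Over (Spec (CommRingCat.of L))} (g : T ⟶ up ρ J) :
    toBelow f ρ σ hσ (rigPull (fL f ρ) (σL f ρ σ hσ) (hσL f ρ σ hσ) g (ξL f ρ J σ hσ ξ)) =
      rigPull f σ hσ (low ρ J g) ξ := by
  rw [← toBelow_pull, ξL, toBelow_ofBelow, rigPull_comp]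

include hξ in
theorem deg0_ξL : FGA.HasFibreDegreeZeroCl (fL f ρ) (up ρ J) (ξL f ρ J σ hσ ξ).1 := by
  rw [← deg0Cl_toBelow f ρ σ hσ, ξL, toBelow_ofBelow]
  exact (rig0Pull f σ hσ (upPr ρ J) ⟨ξ, hξ⟩).2

include huniv in
theorem universal (T : Over (Spec (CommRingCat.of L))) (c : PicF.Rig (fL f ρ) (σL f ρ σ hσ) (hσL f ρ σ hσ) T)
    (hc : FGA.HasFibreDegreeZeroCl (fL f ρ) T c.1) :
    ∃! g : T ⟶ up ρ J, PicF.pullCl (PicF.XTmap (fL f ρ) g) (ξL f ρ J σ hσ ξ).1 = c.1 := by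
  obtain ⟨g₀, hg₀, hu⟩ := huniv _ (toBelow f ρ σ hσ c) ((deg0Cl_toBelow f ρ σ hσ c).2 hc)
  obtain ⟨g, rfl⟩ := low_surjective ρ J g₀
  refine ⟨g, ?_, fun g' hg' => low_injective ρ J (hu _ ?_)⟩
  · have h : toBelow f ρ σ hσ (rigPull (fL f ρ) (σL f ρ σ hσ) (hσL f ρ σ hσ) g (ξL f ρ J σ hσ ξ)) =
        toBelow f ρ σ hσ c := (toBelow_pull_ξL f ρ J σ hσ ξ g).trans (Subtype.ext hg₀)
    have h' := congrArg (ofBelow f ρ σ hσ) h
    rw [ofBelow_toBelow, ofBelow_toBelow] at h'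
    exact congrArg Subtype.val h'
  · have h : rigPull (fL f ρ) (σL f ρ σ hσ) (hσL f ρ σ hσ) g' (ξL f ρ J σ hσ ξ) = c := Subtype.ext hg'
    exact congrArg Subtype.val ((toBelow_pull_ξL f ρ J σ hσ ξ g').symm.trans (congrArg (toBelow f ρ σ hσ) h))

theorem ofBelow_rigify {T : Over (Spec (CommRingCat.of L))} {c : PicF.Cl (PicF.XT f (below ρ T))}
    (hc : PicF.IsInvertibleCl c) :
    ofBelow f ρ σ hσ (rigify f σ hσ hc) =
      rigify (fL f ρ) (σL f ρ σ hσ) (hσL f ρ σ hσ) (FppfPic.isInvertibleCl_pull (cmp f ρ T).hom hc) := by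
  refine Subtype.ext ?_
  show PicF.pullCl (cmp f ρ T).hom (c * PicF.pullCl _ (invCl _)) = PicF.pullCl (cmp f ρ T).hom c * PicF.pullCl _ (invCl _)
  rw [pullCl_mul, PicClLib.pullCl_comp, cmp_proj]
  congr 2
  exact invCl_congr _ _ (by rw [PicClLib.pullCl_comp, cmp_sec f ρ σ hσ])

theorem sc_cmp {T : Over (Spec (CommRingCat.of L))} (x : T ⟶ Over.mk (fL f ρ)) :
    sc x ≫ (cmp f ρ T).hom = sc (lowX f ρ x) := by
  refine pullback.hom_ext ?_ ?_
  · rw [Category.assoc, cmp_fst, ← Category.assoc]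
    refine (congrArg (· ≫ pullback.fst f ρ) (sec_fst (fL f ρ) T _ _)).trans ?_
    exact (sec_fst f (below ρ T) _ _).symm
  · rw [Category.assoc]
    refine (congrArg (sc x ≫ ·) (cmp_proj f ρ T)).trans ?_
    exact (sec_proj (fL f ρ) T _ _).trans (sec_proj f (below ρ T) _ _).symm

theorem idl_cmp {T : Over (Spec (CommRingCat.of L))} (x : T ⟶ Over.mk (fL f ρ)) :
    PicF.pullCl (cmp f ρ T).hom (idl f (gr (lowX f ρ x))) = idl (fL f ρ) (gr x) := by
  haveI : IsClosedImmersion (sc x) := isClosedImmersion_sec _ _ _ _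
  haveI : IsClosedImmersion (sc (lowX f ρ x)) := isClosedImmersion_sec _ _ _ _
  have hpb : IsPullback (sc x) (𝟙 T.left) (cmp f ρ T).hom (sc (lowX f ρ x)) :=
    IsPullback.of_vert_isIso ⟨(sc_cmp f ρ x).trans (Category.id_comp _).symm⟩
  have hker : (gr (lowX f ρ x)).comap (cmp f ρ T).hom = gr x := by
    rw [show gr (lowX f ρ x) = (sc (lowX f ρ x)).ker from secGraph_eq _ _ _ _,
      show gr x = (sc x).ker from secGraph_eq _ _ _ _, ← Scheme.IdealSheafData.ker_fst_of_isClosedImmersion,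
      ← Scheme.Hom.ker_comp_of_isIso hpb.isoPullback.hom, hpb.isoPullback_hom_fst]
  show PicF.cl _ = _
  rw [Big.cl_idealMod_comap _ _ (RelCurveDiv.isEffCartier_of_finLocFree _ _ (grObj f (lowX f ρ x)).2.1).1
    (by rw [hker]; exact (RelCurveDiv.isEffCartier_of_finLocFree _ _ (grObj (fL f ρ) x).2.1).1), hker]

include hdim hdimL in
theorem divRig_cmp {T : Over (Spec (CommRingCat.of L))} (x : T ⟶ Over.mk (fL f ρ)) :
    ofBelow f ρ σ hσ (divRig f σ hσ 1 (grObj f (lowX f ρ x))) =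
      divRig (fL f ρ) (σL f ρ σ hσ) (hσL f ρ σ hσ) 1 (grObj (fL f ρ) x) := by
  rw [divRig, divRig, ofBelow_rigify]
  refine rigify_congr (fL f ρ) (σL f ρ σ hσ) (hσL f ρ σ hσ) _ _ ?_
  have hb : lowX f ρ (basePt (fL f ρ) (σL f ρ σ hσ) (hσL f ρ σ hσ) T) = basePt f σ hσ (below ρ T) := by
    refine Over.OverMorphism.ext ?_
    show (_ ≫ σL f ρ σ hσ) ≫ pullback.fst f ρ = (T.hom ≫ ρ) ≫ σ
    rw [Category.assoc, pullback.lift_fst, Category.assoc]
    rfl
  rw [divCl, divCl, pow_one, pow_one, pullCl_mul, tw_δ (fL f ρ) hdimL (σL f ρ σ hσ) (hσL f ρ σ hσ), tw_δ f hdim σ hσ, ← hb, idl_cmp, oCl,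
    pull_invCl]
  congr 1
  exact invCl_congr _ _ (idl_cmp f ρ x)

include hdim hdimL in
theorem low_aj [IsProper J.hom] {T : Over (Spec (CommRingCat.of L))} (x : T ⟶ Over.mk (fL f ρ)) :
    low ρ J (x ≫ aj (fL f ρ) hdimL (σL f ρ σ hσ) (hσL f ρ σ hσ) (ξL f ρ J σ hσ ξ) (deg0_ξL f ρ J σ hσ ξ hξ)
        (universal f ρ J σ hσ ξ huniv)) =
      lowX f ρ x ≫ aj f hdim σ hσ ξ hξ huniv := by
  refine eq_of_rigPull f σ hσ ξ hξ huniv ?_
  rw [rigPull_aj, ← toBelow_pull_ξL f ρ J σ hσ ξ, rigPull_aj, ← divRig_cmp f ρ hdim hdimL σ hσ x, toBelow_ofBelow]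

include hdim hdimL in
theorem low_mul {T : Over (Spec (CommRingCat.of L))} (a b : T ⟶ up ρ J) :
    letI := jacGrpObj f hdim σ hσ ξ hξ huniv
    letI := jacGrpObj (fL f ρ) hdimL (σL f ρ σ hσ) (hσL f ρ σ hσ) (ξL f ρ J σ hσ ξ) (deg0_ξL f ρ J σ hσ ξ hξ)
      (universal f ρ J σ hσ ξ huniv)
    low ρ J (a * b) = low ρ J a * low ρ J b := by
  letI := jacGrpObj f hdim σ hσ ξ hξ huniv
  letI := jacGrpObj (fL f ρ) hdimL (σL f ρ σ hσ) (hσL f ρ σ hσ) (ξL f ρ J σ hσ ξ) (deg0_ξL f ρ J σ hσ ξ hξ)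
    (universal f ρ J σ hσ ξ huniv)
  refine eq_of_rigPull f σ hσ ξ hξ huniv (Subtype.ext ?_)
  have hv : ∀ g : T ⟶ up ρ J, PicF.pullCl (PicF.XTmap f (low ρ J g)) ξ.1 =
      PicF.pullCl (cmp f ρ T).inv (PicF.pullCl (PicF.XTmap (fL f ρ) g) (ξL f ρ J σ hσ ξ).1) := fun g =>
    (congrArg Subtype.val (toBelow_pull_ξL f ρ J σ hσ ξ g)).symm
  show PicF.pullCl (PicF.XTmap f (low ρ J (a * b))) ξ.1 = PicF.pullCl (PicF.XTmap f (low ρ J a * low ρ J b)) ξ.1
  rw [jac_pull_mul f hdim σ hσ ξ hξ huniv, hv, hv, hv, jac_pull_mul, pullCl_mul]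

end Groth.Agent.PicCurve.Ext

end
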