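import Groth.Agent.PicCurve.Torelli.Combi
import Groth.Agent.PicCurve.Pts.Residual
import Groth.Agent.PicCurve.Pts.Canonical
import Groth.Agent.PicCurve.Pts.Unique
import Groth.Agent.PicCurve.Pts.H1Twist
import Groth.Agent.PicCurve.Alb.Mono
import Groth.Agent.CurveFF.Base

/-!
# The rational points of the Jacobian of a curve form a system in the sense of the combinatorial Torelli argument
-/

noncomputable section

set_option autoImplicit false
set_option linter.style.haveILetI false
set_option linter.unusedSectionVars false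
set_option backward.isDefEq.respectTransparency false
set_option backward.isDefEq.respectTransparency.types false
set_option maxHeartbeats 1000000
set_option synthInstance.maxHeartbeats 400000
attribute [-instance] CategoryTheory.catToReflQuiver

universe u

open CategoryTheory CategoryTheory.Limits AlgebraicGeometry TopologicalSpace
  MonoidalCategory CartesianMonoidalCategory
open scoped MonObj
open Groth.Agent.H23.PicMul

namespace Groth.Agent.PicCurve.Torelli

open Alb Pts

/-- the group of rational points carries the topology of the scheme -/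
scoped instance ptTopology {k : Type u} [Field k] [IsAlgClosed k] {J : Over (Spec (CommRingCat.of k))} :
    TopologicalSpace (𝟙_ (Over (Spec (CommRingCat.of k))) ⟶ J) :=
  TopologicalSpace.induced pt inferInstance

section General

variable {k : Type u} [Field k] [IsAlgClosed k] {J : Over (Spec (CommRingCat.of k))} [GrpObj J] [IsCommMonObj J]

/-- translate of a power map -/
def powMap (c : 𝟙_ (Over (Spec (CommRingCat.of k))) ⟶ J) (n : ℤ) : J ⟶ J := (toUnit J ≫ c) * (𝟙 J) ^ n

theorem comp_powMap (c z : 𝟙_ (Over (Spec (CommRingCat.of k))) ⟶ J) (n : ℤ) : z ≫ powMap c n = c * z ^ n := by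
  rw [powMap, MonObj.comp_mul, GrpObj.comp_zpow, Category.comp_id, ← Category.assoc,
    toUnit_unique (z ≫ toUnit J) (𝟙 _), Category.id_comp]

theorem contPow : ContPow (𝟙_ (Over (Spec (CommRingCat.of k))) ⟶ J) := fun c n => by
  refine continuous_induced_rng.2 ?_
  have : (pt ∘ fun z : 𝟙_ (Over (Spec (CommRingCat.of k))) ⟶ J => c * z ^ n) = (powMap c n).left.base ∘ pt := by
    funext z
    show pt (c * z ^ n) = _
    rw [Function.comp_apply, pt_comp, comp_powMap]
  rw [this]
  exact (powMap c n).left.continuous.comp continuous_induced_dom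

variable {A : Over (Spec (CommRingCat.of k))}

/-- the image of the points of a proper scheme -/
theorem isClosed_image [IsProper A.hom] [IsSeparated J.hom] [LocallyOfFiniteType J.hom] (φ : A ⟶ J) :
    IsClosed (Set.range fun q : 𝟙_ (Over (Spec (CommRingCat.of k))) ⟶ A => q ≫ φ) := by
  haveI : IsProper (φ.left ≫ J.hom) := by rw [Over.w]; infer_instance
  haveI : IsProper φ.left := IsProper.of_comp _ J.hom
  haveI : JacobsonSpace A.left := LocallyOfFiniteType.jacobsonSpace A.hom
  have h : IsClosed ((pt (Y := J)) ⁻¹' Set.range φ.left.base) :=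
    φ.left.isClosedMap.isClosed_range.preimage continuous_induced_dom
  suffices hs : (Set.range fun q : 𝟙_ (Over (Spec (CommRingCat.of k))) ⟶ A => q ≫ φ) =
      (pt (Y := J)) ⁻¹' Set.range φ.left.base by rw [hs]; exact h
  ext a
  constructor
  · rintro ⟨q, rfl⟩
    exact ⟨pt q, pt_comp q φ⟩
  · rintro ⟨w₀, hw₀⟩
    have hcl : IsClosed ({pt a} : Set J.left) := (pointEquivClosedPoint J.hom ⟨a.left, Over.w a⟩).2
    obtain ⟨w, hw, hwc⟩ := nonempty_inter_closedPoints (X := A.left)
      ⟨w₀, (show w₀ ∈ φ.left.base ⁻¹' {pt a} from hw₀)⟩ (hcl.preimage φ.left.continuous).isLocallyClosed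
    obtain ⟨q, rfl⟩ := exists_pt (Y := A) hwc
    exact ⟨q, pt_injective ((pt_comp q φ).symm.trans hw)⟩

/-- the image of the points of an irreducible scheme -/
theorem isIrreducible_image [LocallyOfFiniteType A.hom] [IrreducibleSpace A.left] (φ : A ⟶ J) :
    IsIrreducible (Set.range fun q : 𝟙_ (Over (Spec (CommRingCat.of k))) ⟶ A => q ≫ φ) := by
  haveI : JacobsonSpace A.left := LocallyOfFiniteType.jacobsonSpace A.hom
  have hcl : ∀ U : Set A.left, IsOpen U → U.Nonempty → ∃ q : 𝟙_ (Over (Spec (CommRingCat.of k))) ⟶ A, pt q ∈ U :=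
    fun U hU hne => by
      obtain ⟨w, hw, hwc⟩ := nonempty_inter_closedPoints (X := A.left) hne hU.isLocallyClosed
      obtain ⟨q, rfl⟩ := exists_pt (Y := A) hwc
      exact ⟨q, hw⟩
  obtain ⟨q₀, -⟩ := hcl Set.univ isOpen_univ Set.univ_nonempty
  refine ⟨⟨_, q₀, rfl⟩, fun U V hU hV => ?_⟩
  obtain ⟨U', hU', rfl⟩ := isOpen_induced_iff.1 hU
  obtain ⟨V', hV', rfl⟩ := isOpen_induced_iff.1 hV
  rintro ⟨_, ⟨q₁, rfl⟩, h₁⟩ ⟨_, ⟨q₂, rfl⟩, h₂⟩
  obtain ⟨w, hw⟩ := nonempty_preirreducible_inter (hU'.preimage φ.left.continuous) (hV'.preimage φ.left.continuous)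
    ⟨pt q₁, h₁⟩ ⟨pt q₂, h₂⟩
  obtain ⟨q, hq⟩ := hcl _ ((hU'.preimage φ.left.continuous).inter (hV'.preimage φ.left.continuous)) ⟨w, hw⟩
  exact ⟨_, ⟨q, rfl⟩, hq.1, hq.2⟩

theorem irreducibleSpace_fibPow {X : Scheme.{u}} (f : X ⟶ Spec (CommRingCat.of k)) [Smooth f]
    [GeometricallyIrreducible f] : ∀ n : ℕ, IrreducibleSpace ↥(SymProd.fibPow f n)
  | 0 => by
    haveI : IsIso (WidePullback.base (fun _ : Fin 0 => f)) :=
      ⟨WidePullback.lift (𝟙 _) (fun j => j.elim0) (fun j => j.elim0),
        WidePullback.hom_ext _ _ _ (fun j => j.elim0) (by rw [Category.assoc, WidePullback.lift_base]; simp),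
        WidePullback.lift_base _ _ _ _⟩
    exact (WidePullback.base (fun _ : Fin 0 => f)).homeomorph.irreducibleSpace_iff.2
      (inferInstanceAs (IrreducibleSpace (PrimeSpectrum k)))
  | n + 1 => by
    haveI := irreducibleSpace_fibPow f n
    exact (isPullback_succ f n).isoPullback.hom.homeomorph.irreducibleSpace_iff.2 inferInstance

theorem sum_pts {C : Scheme.{u}} (f : C ⟶ Spec (CommRingCat.of k)) [IsProper f] (j : Over.mk f ⟶ J) (n : ℕ) :
    WJ f j n = Set.range fun q : 𝟙_ (Over (Spec (CommRingCat.of k))) ⟶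
      Over.mk (WidePullback.base fun (_ : Fin n) => f) => q ≫ sumMap f j n := by
  ext a
  constructor
  · rintro ⟨x, rfl⟩
    refine ⟨Over.homMk (WidePullback.lift (𝟙 _) (fun i => (x i).left) (fun i => Over.w (x i)))
      (WidePullback.lift_base _ _ _ _), ?_⟩
    show _ ≫ sumMap f j n = _
    rw [comp_sumMap]
    congr 2
    funext i
    congr 1
    exact Over.OverMorphism.ext (WidePullback.lift_π _ _ _ _ _)
  · rintro ⟨q, rfl⟩
    exact ⟨fun i => q ≫ Over.homMk (WidePullback.π (fun (_ : Fin n) => f) i)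
      (WidePullback.π_arrow (fun (_ : Fin n) => f) i), comp_sumMap f j q⟩

end General

variable {k : Type u} [Field k] [IsAlgClosed k] (C : Scheme.{u}) [C.Over (Spec (CommRingCat.of k))]
  [IsProper (C ↘ Spec (CommRingCat.of k))] [Smooth (C ↘ Spec (CommRingCat.of k))]
  [GeometricallyConnected (C ↘ Spec (CommRingCat.of k))]
  (hdim : topologicalKrullDim C = 1) (σ : Spec (CommRingCat.of k) ⟶ C)
  (hσ : σ ≫ (C ↘ Spec (CommRingCat.of k)) = 𝟙 _)
  {J : Over (Spec (CommRingCat.of k))} [GrpObj J] [IsCommMonObj J]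
  {ψ : (ModFun.PicDeg (C ↘ Spec (CommRingCat.of k)) 0).Hom ⊤ J}
  (hJ : Jac.IsJacobian (C ↘ Spec (CommRingCat.of k)) ⊤ J ψ)
  {j : Over.mk (C ↘ Spec (CommRingCat.of k)) ⟶ J}
  (hj : Jac.IsAbelJacobiAt (C ↘ Spec (CommRingCat.of k)) σ ψ j)

include hdim hσ hJ hj in
theorem exists_sys {g : ℕ} (hg : Curv2.genus k C = g) (hg2 : 2 ≤ g) :
    ∃ κ : 𝟙_ (Over (Spec (CommRingCat.of k))) ⟶ J, Sys g (WJ (C ↘ Spec (CommRingCat.of k)) j) κ ∧
      Supp g (WJ (C ↘ Spec (CommRingCat.of k)) j) κ ∧
      Function.Injective (fun x : 𝟙_ (Over (Spec (CommRingCat.of k))) ⟶ Over.mk (C ↘ Spec (CommRingCat.of k)) =>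
        x ≫ j) ∧ Mono j := by
  let f := C ↘ Spec (CommRingCat.of k)
  let P : Over (Spec (CommRingCat.of k)) := 𝟙_ _
  haveI : IsProper f := ‹_›
  haveI : Smooth f := ‹_›
  haveI : ConnectedSpace C := connectedSpace_of_geomConn f
  haveI : GeometricallyIntegral f := Groth.Agent.S7791.result f σ hσ
  haveI : IsIntegral C := GeometricallyIntegral.isIntegral_of_subsingleton f
  haveI : SmoothOfRelativeDimension 1 f := Groth.Agent.HilbCurve.smoothOfRelativeDimension_one f hdim
  obtain ⟨J₀, ξ, hp, hsm, hi, hξ, huniv⟩ := Groth.Agent.PicCurve.exists_jacobian_field f hdim σ hσ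
  haveI := hp; haveI := hsm; haveI := hi
  haveI : IrreducibleSpace J₀.left := GeometricallyIrreducible.irreducibleSpace_of_subsingleton J₀.hom
  letI := PicCurve.jacGrpObj f hdim σ hσ ξ hξ huniv
  haveI := jac_isCommMonObj f hdim σ hσ ξ hξ huniv
  obtain ⟨e, he, he', hej, hpt⟩ := exists_iso_jac_class f hdim σ hσ ξ hξ huniv hJ hj
  haveI := he
  haveI := he'
  obtain ⟨hpJ, htr⟩ := coarse_facts C hdim σ hσ hJ hj
  haveI := hpJ
  haveI : Mono (aj f hdim σ hσ ξ hξ huniv) := mono_aj f hdim σ hσ ξ hξ huniv (show 0 < Curv2.genus k C by omega)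
  haveI : Mono j := hej ▸ mono_comp (aj f hdim σ hσ ξ hξ huniv) e.hom
  have hinj : Function.Injective (fun x : P ⟶ Over.mk f => x ≫ j) := fun x y h => (cancel_mono j).1 h
  have hbase : (Over.homMk σ hσ : P ⟶ Over.mk f) ≫ j = 1 := by
    rw [← hej, ← Category.assoc, basePt_aj, IsMonHom.one_hom, MonObj.one_eq_one]
  haveI : LocallyOfFiniteType (Over.mk f).hom := inferInstanceAs (LocallyOfFiniteType f)
  haveI : IsProper (Over.mk f).hom := inferInstanceAs (IsProper f)
  have hone : ∀ n, (1 : P ⟶ J) ∈ WJ f j n := fun n => ⟨fun _ => Over.homMk σ hσ, by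
    refine (List.prod_eq_one fun t ht => ?_).symm
    obtain ⟨i, rfl⟩ := List.mem_ofFn.1 ht
    exact hbase⟩
  have hW1 : ∀ a, a ∈ WJ f j 1 ↔ ∃ x : P ⟶ Over.mk f, a = x ≫ j := fun a =>
    ⟨fun ⟨x, hx⟩ => ⟨x 0, by rw [hx, List.ofFn_succ, List.ofFn_zero, List.prod_singleton]⟩,
      fun ⟨x, hx⟩ => ⟨fun _ => x, by rw [hx, List.ofFn_succ, List.ofFn_zero, List.prod_singleton]⟩⟩
  -- the canonical class
  have hΩ := CurveFF.isInvertible_Ωm k C hdim
  have hδ := isInvertibleCl_δ f σ hσ
  let Kf : (PicF.XT f P).Modules := (Scheme.Modules.pullback (pullback.fst f P.hom)).obj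
    (CohB1.tensorMod (Omega.sheaf f) (CohB1.tensorPow (ClSub.idealMod σ.ker) (2 * g - 2)))
  have hKok : (ModFun.PicDeg f 0).ok P Kf := by
    obtain ⟨D, hDcl, hD⟩ := isInvertibleCl_mul (c := PicF.cl (CurveFF.Ωm k C)) ⟨_, rfl, hΩ⟩
      (isInvertibleCl_pow hδ (2 * g - 2))
    have hcl : PicF.cl Kf = PicF.pullCl (p₁ f) (PicF.cl D) := by
      rw [hDcl]
      show PicF.pullCl (p₁ f) (PicF.cl _) = _
      congr 1
      exact (cl_tensor _ _).trans (congrArg (_ * ·) (cl_tensorPow _ _))
    obtain ⟨φ⟩ : Nonempty ((Scheme.Modules.pullback (p₁ f)).obj D ≅ Kf) := cl_eq_iff.1 hcl.symm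
    refine (ok_iff f hdim 0 P Kf).2 ⟨isInvertible_of_iso φ (PicClLib.isInvertible_pullback _ hD), fun s => ?_⟩
    have hd : degX f (PicF.cl D) = 0 := by
      rw [hDcl, degX_mul f hdim ⟨_, rfl, hΩ⟩ (isInvertibleCl_pow hδ _), degX_δ_pow f hdim σ hσ,
        degX_cl (k := k) hdim.le hΩ, (CurveFF.canonical_invariants k C hdim).2, hg]
      omega
    haveI : Subsingleton P.left := inferInstanceAs (Subsingleton (PrimeSpectrum k))
    rw [hcl, ← hd]
    exact congrArg _ (Subsingleton.elim _ _)
  let κ := ψ.app P Kf trivial hKok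
  refine ⟨κ, ?_, ?_, hinj, ‹_›⟩
  · exact
    { closed := fun n => by
        rw [sum_pts f j n]
        haveI : IsProper (Over.mk (WidePullback.base fun (_ : Fin n) => f)).hom := isProper_base f n
        exact isClosed_image _
      irred := fun n => by
        rw [sum_pts f j n]
        haveI : IsProper (Over.mk (WidePullback.base fun (_ : Fin n) => f)).hom := isProper_base f n
        haveI : IrreducibleSpace (Over.mk (WidePullback.base fun (_ : Fin n) => f)).left := irreducibleSpace_fibPow f n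
        exact isIrreducible_image _
      one_mem := hone
      mul_mem := fun hu hv => mul_mem_WJ hu hv
      trans := fun {n r} hnr u h => (translate_subset_iff C hdim σ hσ hJ hj (by omega) u).1 h
      invol := fun u hu => canonical_involution C hdim σ hσ hJ hj hg hg2 Kf ⟨Iso.refl _⟩ hKok rfl hu
      residual := fun {r} hr {u y x} hu hy hx h => by
        obtain ⟨x₀, rfl⟩ := (hW1 x).1 hx
        exact point_or_residual C hdim σ hσ hJ hj hg hg2 Kf ⟨Iso.refl _⟩ hKok rfl hr hu hy x₀ h
      infinite := by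
        have hs : (fun x : P ⟶ Over.mk f => x ≫ j) '' Set.univ ⊆ WJ f j 1 := by
          rintro _ ⟨x, -, rfl⟩
          exact (hW1 _).2 ⟨x, rfl⟩
        refine Set.Infinite.mono hs (Set.Infinite.image hinj.injOn ?_)
        intro hfin
        refine HilbCurve.closedPoints_infinite f hdim ((hfin.image pt).subset fun p hp => ?_)
        obtain ⟨x, rfl⟩ := exists_pt (Y := Over.mk f) hp
        exact ⟨x, trivial, rfl⟩
      curve := fun Z hZ hinf => by
        obtain ⟨F, hF, rfl⟩ := isClosed_induced_iff.1 hZ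
        haveI := CurveCohLib.isNoetherian_of_proper (k := k) (X := C)
        let F' : Set C := j.left.base ⁻¹' F
        have hF' : IsClosed F' := hF.preimage j.left.continuous
        have hgen : genericPoint C ∈ F' := by
          by_contra hne
          refine hinf (((CurveCohLib.finite_of_closedPoints hF' fun z hz => ?_).preimage
            (f := pt (Y := Over.mk f)) (fun x _ y _ h => pt_injective h)).image (fun x : P ⟶ Over.mk f => x ≫ j)
              |>.subset ?_)
          · exact (CurveFF.eq_or_isClosed k C hdim z).resolve_left fun h => hne (h ▸ hz)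
          · rintro a ⟨ha, haF⟩
            obtain ⟨x, rfl⟩ := (hW1 a).1 ha
            exact ⟨x, show j.left.base (pt x) ∈ F by rwa [pt_comp], rfl⟩
        intro a ha
        obtain ⟨x, rfl⟩ := (hW1 a).1 ha
        show pt (x ≫ j) ∈ F
        rw [← pt_comp]
        exact ((genericPoint_spec C).specializes (Set.mem_univ (pt x))).mem_closed hF' hgen }
  · exact
    { supp := fun c hc => by
        obtain ⟨q₀, hq₀, hq₀'⟩ := hc
        obtain ⟨x₀, rfl⟩ := (hW1 q₀).1 hq₀
        have hinv : ∀ u ∈ WJ f j (g - 1), κ * u⁻¹ ∈ WJ f j (g - 1) := fun u hu =>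
          canonical_involution C hdim σ hσ hJ hj hg hg2 Kf ⟨Iso.refl _⟩ hKok rfl hu
        have hflip : ∀ q : P ⟶ J, q * c⁻¹ ∈ WJ f j (g - 1) ↔ c * κ * q⁻¹ ∈ WJ f j (g - 1) := by
          intro q
          have e1 : κ * (q * c⁻¹)⁻¹ = c * κ * q⁻¹ := by rw [mul_inv, inv_inv, mul_comm q⁻¹, ← mul_assoc, mul_comm κ]
          have e2 : κ * (c * κ * q⁻¹)⁻¹ = q * c⁻¹ := by
            rw [mul_inv, mul_inv, inv_inv, mul_comm c⁻¹, ← mul_assoc, mul_inv_cancel_left, mul_comm]
          exact ⟨fun h => e1 ▸ hinv _ h, fun h => e2 ▸ hinv _ h⟩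
        let b := c * κ
        have htr' : ∀ (n : ℕ) (v : Fin n → (P ⟶ Over.mk f)), (List.ofFn fun i => v i ≫ j).prod ≫ e.inv =
            (List.ofFn fun i => v i ≫ aj f hdim σ hσ ξ hξ huniv).prod := by
          intro n v
          rw [prod_comp_hom e.inv]
          congr 2
          funext i
          rw [← hej, Category.assoc, Category.assoc, e.hom_inv_id, Category.comp_id]
        have htr'' : ∀ (n : ℕ) (v : Fin n → (P ⟶ Over.mk f)),
            (List.ofFn fun i => v i ≫ aj f hdim σ hσ ξ hξ huniv).prod ≫ e.hom = (List.ofFn fun i => v i ≫ j).prod := by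
          intro n v
          rw [← htr' n v, Category.assoc, e.inv_hom_id, Category.comp_id]
        let b₀ := b ≫ e.inv
        obtain ⟨M, hMcl, hM⟩ := isInvertibleCl_clN f σ hσ ξ g b₀
        have hRRM := degX_cl (k := k) hdim.le hM
        rw [hMcl, degX_clN f hdim σ hσ ξ hξ, CurveCohLib.Clifford.deg_eq k hdim hM, hg] at hRRM
        obtain ⟨xs, hxs⟩ := (mem_Wpts_iff hdim σ hσ ξ hξ huniv g b₀ hM hMcl).2 (by omega)
        have hb : b = (List.ofFn fun i => xs i ≫ j).prod := by
          rw [← htr'', ← hxs, Category.assoc, e.inv_hom_id, Category.comp_id]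
        -- one section
        obtain ⟨N, hNcl, hN⟩ := isInvertibleCl_clN f σ hσ ξ (g - 1) (b₀ * (x₀ ≫ aj f hdim σ hσ ξ hξ huniv)⁻¹)
        have hN0 : Module.finrank k (Coh.HH C N 0) = 0 := by
          by_contra hne
          obtain ⟨v, hv⟩ := (mem_Wpts_iff hdim σ hσ ξ hξ huniv (g - 1) _ hN hNcl).2 (Nat.pos_of_ne_zero hne)
          refine hq₀' ((hflip _).2 ⟨v, ?_⟩)
          have h2 : (b₀ * (x₀ ≫ aj f hdim σ hσ ξ hξ huniv)⁻¹) ≫ e.hom = (List.ofFn fun i => v i ≫ j).prod := by
            rw [hv, htr'']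
          rw [MonObj.mul_comp, GrpObj.inv_comp, Category.assoc, e.inv_hom_id, Category.comp_id, Category.assoc, hej] at h2
          exact h2
        have hRRN := degX_cl (k := k) hdim.le hN
        rw [hNcl, degX_clN f hdim σ hσ ξ hξ, CurveCohLib.Clifford.deg_eq k hdim hN, hg] at hRRN
        have hone' : Module.finrank k (Coh.HH C M 0) ≤ 1 := by
          let p : C := x₀.left (show Spec (CommRingCat.of k) from IsLocalRing.closedPoint k)
          have hp : IsClosed ({p} : Set C) := (pointEquivClosedPoint f ⟨x₀.left, Over.w x₀⟩).2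
          have hker : x₀.left.ker = CurvePoint.ptIdeal p hp := by
            haveI : IsClosedImmersion (x₀.left ≫ f) := by
              rw [show x₀.left ≫ f = 𝟙 _ from Over.w x₀]; infer_instance
            haveI : IsClosedImmersion x₀.left := IsClosedImmersion.of_comp x₀.left f
            haveI : Subsingleton P.left := inferInstanceAs (Subsingleton (PrimeSpectrum k))
            haveI : IsReduced P.left := inferInstanceAs (IsReduced (Spec (CommRingCat.of k)))
            refine CanonDual.ker_eq_vanishingIdeal x₀.left (Set.ext fun q => ⟨?_, ?_⟩)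
            · rintro ⟨t, rfl⟩
              rw [Subsingleton.elim t (show Spec (CommRingCat.of k) from IsLocalRing.closedPoint k)]
              rfl
            · intro hq
              exact ⟨_, (Set.mem_singleton_iff.1 hq).symm⟩
          have hcl : PicF.cl M * PicF.cl (CurvePoint.ptMod p hp) = PicF.cl N := by
            have h1 := clN_mul_aj hdim σ hσ ξ hξ huniv (g - 1) (b₀ * (x₀ ≫ aj f hdim σ hσ ξ hξ huniv)⁻¹) x₀
            rw [inv_mul_cancel_right, show g - 1 + 1 = g by omega, ← hMcl, ← hNcl, ptCl, hker] at h1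
            exact h1
          have := h1_twist_cases k hdim hM hN x₀ p hp hker hcl
          omega
        refine ⟨fun i => xs i ≫ j, fun i => (hW1 _).2 ⟨_, rfl⟩, ?_, fun q hq => ?_⟩
        · rw [← List.prod_ofFn]
          exact hb.symm
        obtain ⟨y, rfl⟩ := (hW1 q).1 hq
        rw [hflip]
        constructor
        · rintro ⟨w, hw⟩
          have hn' : g - 1 + 1 = g := by omega
          let xs' : Fin g → (P ⟶ Over.mk f) := fun i =>
            (Fin.snoc w y : Fin (g - 1 + 1) → (P ⟶ Over.mk f)) (Fin.cast hn'.symm i)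
          have hb' : b = (List.ofFn fun i => xs' i ≫ j).prod := by
            rw [List.ofFn_congr hn'.symm, List.ofFn_succ', List.prod_concat]
            simp only [xs', Fin.cast_cast, Fin.cast_eq_self, Fin.snoc_castSucc, Fin.snoc_last]
            rw [← hw, inv_mul_cancel_right]
          obtain ⟨l, hl⟩ := exists_eq_of_h0_le_one hdim σ hσ ξ hξ huniv b₀ xs xs' hxs
            (by show b ≫ e.inv = _; rw [hb', htr']) hM hMcl hone' (Fin.cast hn' (Fin.last (g - 1)))
          refine ⟨l, ?_⟩
          show y ≫ j = xs l ≫ j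
          rw [← hl]
          simp only [xs', Fin.cast_cast, Fin.cast_eq_self, Fin.snoc_last]
        · rintro ⟨i, hi⟩
          rw [show c * κ = b from rfl, hb, hi]
          obtain ⟨m, rfl⟩ : ∃ m, g = m + 1 := ⟨g - 1, by omega⟩
          refine ⟨fun l => xs (i.succAbove l), ?_⟩
          rw [List.prod_ofFn, List.prod_ofFn, Fin.prod_univ_succAbove _ i, mul_comm (xs i ≫ j), mul_inv_cancel_right]
          rfl
      closed_image := fun c n => by
        have : (fun z : P ⟶ J => c * z ^ n) '' WJ f j 1 =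
            Set.range fun q : P ⟶ Over.mk f => q ≫ j ≫ powMap c (n : ℤ) := by
          ext a
          constructor
          · rintro ⟨z, hz, rfl⟩
            obtain ⟨x, rfl⟩ := (hW1 z).1 hz
            exact ⟨x, by show x ≫ j ≫ _ = _; rw [← Category.assoc, comp_powMap, zpow_natCast]⟩
          · rintro ⟨x, rfl⟩
            exact ⟨_, (hW1 _).2 ⟨x, rfl⟩, by show _ = x ≫ j ≫ _; rw [← Category.assoc, comp_powMap, zpow_natCast]⟩
        rw [this]
        exact isClosed_image _
      prod_mem := by
        intro I s Q hQ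
        classical
        induction s using Finset.induction_on with
        | empty => simpa using hone 0
        | insert a s ha ih =>
          rw [Finset.prod_insert ha, Finset.card_insert_of_notMem ha, mul_comm]
          exact mul_mem_WJ (ih fun i hi => hQ i (Finset.mem_insert_of_mem hi)) (hQ a (Finset.mem_insert_self a s)) }

end Groth.Agent.PicCurve.Torelli

end
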