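import Mathlib

/-!
# Geometric points and descent of rational points
-/

noncomputable section

set_option autoImplicit false
set_option linter.style.haveILetI false

universe u

open CategoryTheory CategoryTheory.Limits AlgebraicGeometry TopologicalSpace

namespace Groth.Agent.PicCurve.Ext

variable {S : Scheme.{u}} {K : Type u} [Field K] [IsAlgClosed K]

/-- a geometric point in the image lifts -/
theorem exists_lift_point {A B : Scheme.{u}} (φ : A ⟶ B) [LocallyOfFiniteType φ]
    (z : Spec (CommRingCat.of K) ⟶ B) (h : z (IsLocalRing.closedPoint K) ∈ Set.range φ) :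
    ∃ q : Spec (CommRingCat.of K) ⟶ A, q ≫ φ = z := by
  let p : pullback z φ ⟶ Spec (CommRingCat.of K) := pullback.fst z φ
  haveI : LocallyOfFiniteType p := inferInstanceAs (LocallyOfFiniteType (pullback.fst z φ))
  haveI : JacobsonSpace ↥(pullback z φ) := LocallyOfFiniteType.jacobsonSpace p
  obtain ⟨w₀, -⟩ : (IsLocalRing.closedPoint K : Spec (CommRingCat.of K)) ∈ Set.range p := by
    rw [show p = pullback.fst z φ from rfl, Scheme.Pullback.range_fst]
    exact h
  obtain ⟨w, -, hw⟩ := nonempty_inter_closedPoints (X := ↥(pullback z φ)) (Z := Set.univ) ⟨w₀, trivial⟩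
    isOpen_univ.isLocallyClosed
  let s := (pointEquivClosedPoint p).symm ⟨w, hw⟩
  have hs : s.1 ≫ pullback.fst z φ = 𝟙 _ := s.2
  exact ⟨s.1 ≫ pullback.snd z φ, by rw [Category.assoc, ← pullback.condition, ← Category.assoc, hs, Category.id_comp]⟩

/-- a geometric point above a closed point -/
theorem exists_point_over {k : Type u} [Field k] (ρ : Spec (CommRingCat.of K) ⟶ Spec (CommRingCat.of k))
    {X : Scheme.{u}} (f : X ⟶ Spec (CommRingCat.of k)) [LocallyOfFiniteType f] {w : X} (hw : IsClosed ({w} : Set X)) :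
    ∃ q : Spec (CommRingCat.of K) ⟶ X, q ≫ f = ρ ∧ q (IsLocalRing.closedPoint K) = w := by
  let p : pullback f ρ ⟶ Spec (CommRingCat.of K) := pullback.snd f ρ
  haveI : LocallyOfFiniteType p := inferInstanceAs (LocallyOfFiniteType (pullback.snd f ρ))
  haveI : JacobsonSpace ↥(pullback f ρ) := LocallyOfFiniteType.jacobsonSpace p
  haveI : Surjective ρ := ⟨fun z => ⟨(IsLocalRing.closedPoint K : Spec (CommRingCat.of K)),
    @Subsingleton.elim (Spec (CommRingCat.of k)) (inferInstanceAs (Subsingleton (PrimeSpectrum k))) _ _⟩⟩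
  haveI : Surjective (pullback.fst f ρ) := inferInstance
  obtain ⟨v₀, hv₀⟩ := Surjective.surj (f := pullback.fst f ρ) w
  obtain ⟨v, hv, hvc⟩ := nonempty_inter_closedPoints (X := ↥(pullback f ρ))
    ⟨v₀, (show v₀ ∈ pullback.fst f ρ ⁻¹' {w} from hv₀)⟩
    (hw.preimage (pullback.fst f ρ).continuous).isLocallyClosed
  let s := (pointEquivClosedPoint p).symm ⟨v, hvc⟩
  have hs : s.1 ≫ pullback.snd f ρ = 𝟙 _ := s.2
  refine ⟨s.1 ≫ pullback.fst f ρ, by rw [Category.assoc, pullback.condition, ← Category.assoc, hs, Category.id_comp], ?_⟩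
  rw [Scheme.Hom.comp_apply,
    show s.1 (IsLocalRing.closedPoint K) = v from congrArg Subtype.val ((pointEquivClosedPoint p).apply_symm_apply ⟨v, hvc⟩)]
  exact hv

omit [IsAlgClosed K] in
/-- a point fixed by the Galois group is rational -/
theorem exists_rational {k : Type u} [Field k] [Algebra k K] [IsGalois k K] {X : Scheme.{u}}
    (f : X ⟶ Spec (CommRingCat.of k)) (d : Spec (CommRingCat.of K) ⟶ X)
    (hd : d ≫ f = Spec.map (CommRingCat.ofHom (algebraMap k K)))
    (hfix : ∀ φ : K ≃ₐ[k] K, Spec.map (CommRingCat.ofHom (φ : K →+* K)) ≫ d = d) :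
    ∃ s : Spec (CommRingCat.of k) ⟶ X, s ≫ f = 𝟙 _ ∧ Spec.map (CommRingCat.ofHom (algebraMap k K)) ≫ s = d := by
  obtain ⟨⟨x, a⟩, rfl⟩ := (Scheme.SpecToEquivOfField K X).symm.surjective d
  have ha : ∀ y, a.hom y ∈ Set.range (algebraMap k K) := fun y => by
    refine (InfiniteGalois.mem_range_algebraMap_iff_fixed (k := k) (a.hom y)).2 fun φ => ?_
    have h := hfix φ
    change Spec.map _ ≫ Spec.map a ≫ X.fromSpecResidueField x = Spec.map a ≫ X.fromSpecResidueField x at h
    rw [← Spec.map_comp_assoc] at h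
    have h2 : (⟨x, a ≫ CommRingCat.ofHom (φ : K →+* K)⟩ : Σ x, X.residueField x ⟶ .of K) = ⟨x, a⟩ :=
      (Scheme.SpecToEquivOfField K X).symm.injective h
    rw [Sigma.mk.injEq] at h2
    exact congr($(eq_of_heq h2.2).hom y)
  let inv : (algebraMap k K).range ≃+* k :=
    (RingEquiv.ofBijective (algebraMap k K).rangeRestrict
      ⟨fun u v huv => (algebraMap k K).injective (congrArg Subtype.val huv), (algebraMap k K).rangeRestrict_surjective⟩).symm
  let a' : X.residueField x ⟶ CommRingCat.of k :=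
    CommRingCat.ofHom (inv.toRingHom.comp (a.hom.codRestrict (algebraMap k K).range ha))
  have ha' : a' ≫ CommRingCat.ofHom (algebraMap k K) = a := by
    refine CommRingCat.hom_ext (RingHom.ext fun y => ?_)
    show algebraMap k K (inv ⟨a.hom y, ha y⟩) = a.hom y
    exact congrArg Subtype.val ((RingEquiv.ofBijective (algebraMap k K).rangeRestrict _).apply_symm_apply ⟨a.hom y, ha y⟩)
  have hs : Spec.map (CommRingCat.ofHom (algebraMap k K)) ≫ Spec.map a' ≫ X.fromSpecResidueField x =
      Spec.map a ≫ X.fromSpecResidueField x := by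
    rw [← Spec.map_comp_assoc, ha']
  refine ⟨Spec.map a' ≫ X.fromSpecResidueField x, ?_, hs⟩
  obtain ⟨b, hb⟩ := Spec.map_surjective ((Spec.map a' ≫ X.fromSpecResidueField x) ≫ f)
  have h1 : Spec.map (CommRingCat.ofHom (algebraMap k K)) ≫ Spec.map b =
      Spec.map (CommRingCat.ofHom (algebraMap k K)) := by
    rw [hb, ← Category.assoc, hs]
    exact hd
  rw [← Spec.map_comp] at h1
  have h2 := Spec.map_injective h1
  rw [← hb, ← Spec.map_id]
  congr 1
  exact CommRingCat.hom_ext (RingHom.ext fun y => (algebraMap k K).injective congr($(h2).hom y))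

end Groth.Agent.PicCurve.Ext

end
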