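import Groth.Agent.PicCurve.Pts.Theta
import Groth.Agent.PicCurve.Pts.SepClosed
import Groth.Agent.PicCurve.Alb.CoarseClass
import Groth.Agent.PicCurve.Torelli.Descend

/-!
# The theta locus over an arbitrary field
-/

noncomputable section

set_option autoImplicit false
set_option linter.style.haveILetI false
set_option linter.unusedSectionVars false
set_option backward.isDefEq.respectTransparency false
set_option backward.isDefEq.respectTransparency.types false
set_option maxHeartbeats 1000000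
set_option synthInstance.maxHeartbeats 400000
attribute [-instance] CategoryTheory.catToReflQuiver

universe u

open CategoryTheory CategoryTheory.Limits AlgebraicGeometry TopologicalSpace
  MonoidalCategory CartesianMonoidalCategory
open scoped MonObj
open Groth.Agent.H23.PicMul

namespace Groth.Agent.PicCurve.Ext

open Alb HilbDLib Pts

variable {k : Type u} [Field k]

theorem comp_transl' {J : Over (Spec (CommRingCat.of k))} [GrpObj J] {T : Over (Spec (CommRingCat.of k))} (c : T ⟶ J)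
    (a : 𝟙_ (Over (Spec (CommRingCat.of k))) ⟶ J) : c ≫ Jac.transl J a = c * (toUnit T ≫ a) := by
  rw [Jac.transl, MonObj.comp_mul, Category.comp_id, ← Category.assoc, toUnit_unique (c ≫ toUnit J) (toUnit T)]

theorem transl_inv_cancel {J : Over (Spec (CommRingCat.of k))} [GrpObj J]
    (a : 𝟙_ (Over (Spec (CommRingCat.of k))) ⟶ J) : Jac.transl J a ≫ Jac.transl J a⁻¹ = 𝟙 J := by
  rw [comp_transl', Jac.transl, _root_.mul_assoc, ← MonObj.comp_mul, mul_inv_cancel, MonObj.comp_one, _root_.mul_one]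

section Div

variable {X : Scheme.{u}} (f : X ⟶ Spec (CommRingCat.of k))
  [IsProper f] [Smooth f] [SmoothOfRelativeDimension 1 f] [GeometricallyIntegral f] [IsIntegral X]
  (hdim : topologicalKrullDim X = 1) (σ : Spec (CommRingCat.of k) ⟶ X) (hσ : σ ≫ f = 𝟙 _)
  {J : Over (Spec (CommRingCat.of k))} (ξ : PicF.Rig f σ hσ J) (hξ : FGA.HasFibreDegreeZeroCl f J ξ.1)
  (huniv : ∀ (T : Over (Spec (CommRingCat.of k))) (c : PicF.Rig f σ hσ T), FGA.HasFibreDegreeZeroCl f T c.1 →
    ∃! g : T ⟶ J, PicF.pullCl (PicF.XTmap f g) ξ.1 = c.1)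
  [IsProper J.hom]
  {Ω : Type u} [Field Ω] [IsAlgClosed Ω] (r : Spec (CommRingCat.of Ω) ⟶ Spec (CommRingCat.of k))

include hdim hξ huniv in
/-- sums of points over a field come from divisors -/
theorem exists_divisor_over (D : Tower f) : ∀ (n : ℕ) (x : Fin n → (Over.mk r ⟶ Over.mk f)),
    letI := jacGrpObj f hdim σ hσ ξ hξ huniv
    ∃ E : Over.mk r ⟶ D.H n,
      E ≫ toJ f hdim σ hσ ξ hξ huniv D n = (List.ofFn fun i => x i ≫ aj f hdim σ hσ ξ hξ huniv).prod := by
  letI := jacGrpObj f hdim σ hσ ξ hξ huniv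
  haveI := jac_isCommMonObj f hdim σ hσ ξ hξ huniv
  intro n
  induction n with
  | zero =>
    intro x
    obtain ⟨E, -, -⟩ := D.univ 0 _ ⟨⊤, deg_zero_top f (Over.mk r)⟩
    exact ⟨E, by rw [List.ofFn_zero, List.prod_nil, toJ, sum_zero, MonObj.comp_one]⟩
  | succ n ih =>
    intro x
    obtain ⟨E₀, hE₀⟩ := ih fun i => x i.castSucc
    refine ⟨pair E₀ (x (Fin.last n)) ≫ D.m n, ?_⟩
    rw [Category.assoc, toJ, pair_m_sum D (aj f hdim σ hσ ξ hξ huniv) hdim n E₀ (x (Fin.last n)), List.ofFn_succ',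
      List.prod_concat, ← hE₀]
    rfl

include hdim hξ huniv in
/-- the class over a point of a divisor mapped to it -/
theorem pull_shCl_eq_oCl' (D : Tower f) {n : ℕ} {T : Over (Spec (CommRingCat.of k))} [Subsingleton T.left]
    [Nonempty T.left] (E : T ⟶ D.H n) :
    PicF.pullCl (PicF.XTmap f (E ≫ toJ f hdim σ hσ ξ hξ huniv D n)) (shCl f σ hσ ξ n) =
      oCl f ⟨HilbD.pull f E (D.Z n).1, isFinLocFreeOfDeg_pull f E _ (D.Z n).2⟩ := by
  refine eq_of_invCl_mul (isInvertibleCl_pow (isInvertibleCl_tw (isInvertibleCl_δ f σ hσ) T) n) ?_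
  rw [pull_shCl, ← rigPull_comp, rigPull_toJ, rigPull_divRig, divRig]
  show _ * PicF.pullCl _ _ = _
  rw [eq_one_of_subsingleton (isInvertibleCl_invCl _), pullCl_one, _root_.mul_one]
  rfl

end Div

variable (C : Scheme.{u}) [C.Over (Spec (CommRingCat.of k))]
  [IsProper (C ↘ Spec (CommRingCat.of k))] [Smooth (C ↘ Spec (CommRingCat.of k))]
  [GeometricallyConnected (C ↘ Spec (CommRingCat.of k))]
  (hdim : topologicalKrullDim C = 1) (σ : Spec (CommRingCat.of k) ⟶ C)
  (hσ : σ ≫ (C ↘ Spec (CommRingCat.of k)) = 𝟙 _)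
  {J : Over (Spec (CommRingCat.of k))} [GrpObj J] [IsCommMonObj J]
  {ψ : (ModFun.PicDeg (C ↘ Spec (CommRingCat.of k)) 0).Hom ⊤ J}
  (hJ : Jac.IsJacobian (C ↘ Spec (CommRingCat.of k)) ⊤ J ψ)
  {j : Over.mk (C ↘ Spec (CommRingCat.of k)) ⟶ J}
  (hj : Jac.IsAbelJacobiAt (C ↘ Spec (CommRingCat.of k)) σ ψ j)

include hdim σ hσ hJ hj in
/-- the theta locus is a translate of the sums of g - 1 points -/
theorem thetaLocus_eq {N : C.Modules} (hN : PicF.IsInvertible N)
    (hNdeg : Curv2.deg k C N 1 = (Curv2.genus k C : ℤ) - 1) (hg : 0 < Curv2.genus k C) :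
    ∃ n0 : 𝟙_ (Over (Spec (CommRingCat.of k))) ⟶ J, Jac.thetaLocus (C ↘ Spec (CommRingCat.of k)) 0 ψ N =
      (Jac.transl J n0).left.base ⁻¹' Set.range ((List.ofFn fun i : Fin (Curv2.genus k C - 1) =>
        (Over.homMk (WidePullback.π (fun (_ : Fin (Curv2.genus k C - 1)) => (C ↘ Spec (CommRingCat.of k))) i)
          (WidePullback.π_arrow (fun (_ : Fin (Curv2.genus k C - 1)) => (C ↘ Spec (CommRingCat.of k))) i) :
            Over.mk (WidePullback.base fun (_ : Fin (Curv2.genus k C - 1)) => (C ↘ Spec (CommRingCat.of k))) ⟶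
              Over.mk (C ↘ Spec (CommRingCat.of k))) ≫ j).prod).left.base := by
  let f := C ↘ Spec (CommRingCat.of k)
  haveI : IsProper f := ‹_›
  haveI : Smooth f := ‹_›
  haveI : ConnectedSpace C := connectedSpace_of_geomConn f
  haveI : GeometricallyIntegral f := Groth.Agent.S7791.result f σ hσ
  haveI : IsIntegral C := GeometricallyIntegral.isIntegral_of_subsingleton f
  haveI : SmoothOfRelativeDimension 1 f := Groth.Agent.HilbCurve.smoothOfRelativeDimension_one f hdim
  obtain ⟨J₀, ξ, hp, hsm, hi, hξ, huniv⟩ := Groth.Agent.PicCurve.exists_jacobian_field f hdim σ hσ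
  haveI := hp; haveI := hsm; haveI := hi
  haveI : IrreducibleSpace J₀.left := GeometricallyIrreducible.irreducibleSpace_of_subsingleton J₀.hom
  letI := PicCurve.jacGrpObj f hdim σ hσ ξ hξ huniv
  haveI := jac_isCommMonObj f hdim σ hσ ξ hξ huniv
  obtain ⟨e, he, he', hej, hpt⟩ := exists_iso_jac_class f hdim σ hσ ξ hξ huniv hJ hj
  haveI := he
  haveI := he'
  haveI : IsProper J.hom := by
    rw [← Over.w e.inv]
    infer_instance
  let n : ℕ := Curv2.genus k C - 1
  have hN' : PicF.IsInvertibleCl (PicF.cl N) := ⟨N, rfl, hN⟩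
  obtain ⟨n₀, hn₀⟩ := exists_clN f hdim σ hσ ξ hξ huniv n hN' (by
    rw [degX_cl (k := k) hdim.le hN, hNdeg]
    omega)
  obtain ⟨D⟩ := nonempty_tower (f := f) hdim σ hσ
  let Pn := Over.mk (WidePullback.base fun (_ : Fin n) => f)
  let π : Fin n → (Pn ⟶ Over.mk f) := fun i =>
    Over.homMk (WidePullback.π (fun (_ : Fin n) => f) i) (WidePullback.π_arrow (fun (_ : Fin n) => f) i)
  let sm : Pn ⟶ J := (List.ofFn fun i => π i ≫ j).prod
  haveI : IsProper Pn.hom := isProper_base f n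
  refine ⟨n₀ ≫ e.hom, ?_⟩
  change Jac.thetaLocus f 0 ψ N = (Jac.transl J (n₀ ≫ e.hom)).left.base ⁻¹' Set.range sm.left.base
  -- classes and sections over a geometric point
  have hprod : ∀ {Ω : Type u} [Field Ω] [IsAlgClosed Ω] (t : Spec (CommRingCat.of Ω) ⟶ Spec (CommRingCat.of k))
      (g₀ : Over.mk t ⟶ J₀) (x : (PicF.XT f (Over.mk t)).Modules), PicF.IsInvertible x →
      PicF.cl x = PicF.pullCl (PicF.XTmap f g₀) ξ.1 →
      ((¬ Subsingleton (Coh.HH (PicF.XT f (Over.mk t))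
        (CohB1.tensorMod x ((Scheme.Modules.pullback (pullback.fst f t)).obj N)) 0)) ↔
      ∃ y : Fin n → (Over.mk t ⟶ Over.mk f), (g₀ ≫ e.hom) ≫ Jac.transl J (n₀ ≫ e.hom) =
        (List.ofFn fun i => y i ≫ j).prod) := by
    intro Ω _ _ t g₀ x hxi hg₀
    let T : Over (Spec (CommRingCat.of k)) := Over.mk t
    haveI : Subsingleton T.left := inferInstanceAs (Subsingleton (PrimeSpectrum Ω))
    haveI : Nonempty T.left := inferInstanceAs (Nonempty (PrimeSpectrum Ω))
    let b : T ⟶ J₀ := g₀ * (toUnit T ≫ n₀)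
    have hb : b ≫ e.hom = (g₀ ≫ e.hom) ≫ Jac.transl J (n₀ ≫ e.hom) := by
      rw [comp_transl', MonObj.mul_comp, Category.assoc]
    have htuple : ∀ y : Fin n → (T ⟶ Over.mk f), (b = (List.ofFn fun i => y i ≫ aj f hdim σ hσ ξ hξ huniv).prod) ↔
        (g₀ ≫ e.hom) ≫ Jac.transl J (n₀ ≫ e.hom) = (List.ofFn fun i => y i ≫ j).prod := by
      intro y
      have h1 : (List.ofFn fun i => y i ≫ aj f hdim σ hσ ξ hξ huniv).prod ≫ e.hom =
          (List.ofFn fun i => y i ≫ j).prod := by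
        rw [prod_comp_hom e.hom]
        congr 2
        funext i
        rw [Category.assoc]
        exact congrArg (y i ≫ ·) hej
      rw [← hb, ← h1, cancel_mono]
    let L : (PicF.XT f T).Modules := CohB1.tensorMod x ((Scheme.Modules.pullback (pullback.fst f t)).obj N)
    have hL : PicF.IsInvertible L := InvX.isInvertible_tensorMod hxi (PicClLib.isInvertible_pullback _ hN)
    have hfst : PicF.XTmap f (toUnit T) ≫ p₁ f = pullback.fst f t := by
      simp [PicF.XTmap, p₁, T]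
    have hLcl : PicF.cl L = PicF.pullCl (PicF.XTmap f b) (shCl f σ hσ ξ n) := by
      refine eq_of_invCl_mul (isInvertibleCl_pow (isInvertibleCl_tw (isInvertibleCl_δ f σ hσ) T) n) ?_
      rw [pull_shCl]
      show PicF.cl x * tw f (PicF.cl N) T * tw f (δ σ) T ^ n = PicF.pullCl _ ξ.1
      rw [jac_pull_mul f hdim σ hσ ξ hξ huniv, ← hg₀, ← FppfPic.pullCl_XTmap_comp, ← pull_A f σ hσ ξ n₀,
        ← clN_mul_pow f σ hσ ξ n n₀, hn₀, PicClLib.pullCl_comp, hfst]
      show _ = PicF.cl x * tw f (PicF.cl N * δ σ ^ n) T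
      rw [tw, tw, tw, pullCl_mul, Alb.pullCl_pow, _root_.mul_assoc]
    letI : (PicF.XT f T).Over (Spec (CommRingCat.of Ω)) := ⟨PicF.XTproj f T⟩
    haveI : IsProper (PicF.XT f T ↘ Spec (CommRingCat.of Ω)) := isProper_proj f T
    haveI : IsIntegral (PicF.XT f T) := isIntegral_XT f t
    haveI := CurveCohLib.isNoetherian_of_proper (k := Ω) (X := PicF.XT f T)
    haveI : Module.Finite Ω (Coh.HH (PicF.XT f T) L 0) :=
      CurveCohLib.finite_HH (k := Ω) (CurveDeg.isCoh_of_isInvertible hL) 0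
    letI := FppfPic.HyperSec.secMod Ω (X := PicF.XT f T) L
    haveI : Module.Finite Ω Γ(L, ⊤) := FppfPic.HyperSec.finite_sections Ω L ‹_›
    constructor
    · intro hQ
      haveI : Nontrivial (Coh.HH (PicF.XT f T) L 0) := not_subsingleton_iff_nontrivial.1 hQ
      have hpos : 0 < Module.finrank Ω (Coh.HH (PicF.XT f T) L 0) := Module.finrank_pos
      rw [FppfPic.HyperSec.finrank_HH_zero Ω L] at hpos
      obtain ⟨s, hs⟩ := Module.finrank_pos_iff_exists_ne_zero.1 hpos
      obtain ⟨E, hE, -⟩ := exists_div_of_section f t hdim σ hσ ξ hξ huniv D b n hL hLcl s hs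
      obtain ⟨y, hy⟩ := exists_tuple_over f hdim σ hσ ξ hξ huniv t D n E
      exact ⟨y, (htuple y).1 (hE.symm.trans hy)⟩
    · rintro ⟨y, hy⟩
      obtain ⟨E, hE⟩ := exists_divisor_over f hdim σ hσ ξ hξ huniv t D n y
      have hI := (RelCurveDiv.isEffCartier_of_finLocFree _ _ (isFinLocFreeOfDeg_pull f E _ (D.Z n).2).1).1
      obtain ⟨L', s', hL', hs'⟩ := exists_line _ hI
      have hL'cl : PicF.cl L' = PicF.cl L := by
        rw [hLcl, (htuple y).2 hy, ← hE, pull_shCl_eq_oCl' f hdim σ hσ ξ hξ huniv D E, oCl]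
        refine eq_invCl _ ?_
        have := cl_mul_idl hL' s' (hs'.symm ▸ hI)
        rw [hs'] at this
        exact (_root_.mul_comm _ _).trans this
      obtain ⟨φ⟩ := cl_eq_iff.1 hL'cl
      have hne : φ.hom.app ⊤ s' ≠ 0 := fun h0 => not_isEffCartier_zero hL (by
        rw [← h0, zeroScheme_map_iso hL' hL φ, hs']
        exact hI)
      have hpos : 0 < Module.finrank Ω Γ(L, ⊤) := Module.finrank_pos_iff_exists_ne_zero.2 ⟨_, hne⟩
      rw [← FppfPic.HyperSec.finrank_HH_zero Ω L] at hpos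
      intro hsub
      haveI : Subsingleton (Coh.HH (PicF.XT f T) L 0) := hsub
      exact absurd Module.finrank_zero_of_subsingleton hpos.ne'
  have hZ : IsClosed ((Jac.transl J (n₀ ≫ e.hom)).left.base ⁻¹' Set.range sm.left.base) := by
    haveI : IsProper (sm.left ≫ J.hom) := by rw [Over.w]; infer_instance
    haveI : IsProper sm.left := IsProper.of_comp _ J.hom
    exact sm.left.isClosedMap.isClosed_range.preimage (Jac.transl J (n₀ ≫ e.hom)).left.continuous
  refine Set.Subset.antisymm (closure_minimal ?_ hZ) (fun m hm => subset_closure ?_)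
  · rintro m ⟨Ω, _, _, t, hP, x, hx, hQ, p, rfl⟩
    let T : Over (Spec (CommRingCat.of k)) := Over.mk t
    haveI : Subsingleton T.left := inferInstanceAs (Subsingleton (PrimeSpectrum Ω))
    haveI : Nonempty T.left := inferInstanceAs (Nonempty (PrimeSpectrum Ω))
    obtain ⟨hxi, hxd⟩ := (ok_iff f hdim 0 T x).1 hx
    have hxc : PicF.IsInvertibleCl (PicF.cl x) := ⟨x, rfl, hxi⟩
    obtain ⟨g₀, hg₀, -⟩ := huniv T ⟨PicF.cl x, hxc, eq_one_of_subsingleton (FppfPic.isInvertibleCl_pull _ hxc)⟩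
      ((hasFibreDegreeZeroCl_iff f _).2 fun s => (deg0At_iff f _ _).2 (hxd s))
    have hψ : ψ.app T x hP hx = g₀ ≫ e.hom := hpt T x hx g₀ 1 Alb.isInvertibleCl_one (by
      rw [pullCl_one, _root_.mul_one]
      exact hg₀.symm)
    obtain ⟨y, hy⟩ := (hprod t g₀ x hxi hg₀.symm).1 hQ
    let q : T ⟶ Pn :=
      Over.homMk (WidePullback.lift t (fun i => (y i).left) (fun i => Over.w (y i))) (WidePullback.lift_base _ _ _ _)
    have hq : q ≫ sm = ψ.app T x hP hx ≫ Jac.transl J (n₀ ≫ e.hom) := by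
      rw [comp_prod, hψ, hy]
      congr 2
      funext i
      rw [← Category.assoc, show q ≫ π i = y i from Over.OverMorphism.ext (WidePullback.lift_π _ _ _ _ _)]
    exact ⟨q.left.base p, congr($(hq).left p)⟩
  · obtain ⟨w, hw⟩ := hm
    obtain ⟨K₀, _, r₀, m₀, z, hz⟩ := exists_field_point (T := Pn) w
    let Ω := AlgebraicClosure K₀
    let s : Spec (CommRingCat.of Ω) ⟶ Spec (CommRingCat.of K₀) := Spec.map (CommRingCat.ofHom (algebraMap K₀ Ω))
    let t : Spec (CommRingCat.of Ω) ⟶ Spec (CommRingCat.of k) := s ≫ r₀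
    let T : Over (Spec (CommRingCat.of k)) := Over.mk t
    let q : T ⟶ Pn := Over.homMk (s ≫ m₀.left) (by
      show (s ≫ m₀.left) ≫ Pn.hom = s ≫ r₀
      rw [Category.assoc]
      exact congrArg (s ≫ ·) (Over.w m₀))
    let p : T.left := show Spec (CommRingCat.of Ω) from IsLocalRing.closedPoint Ω
    have hqw : q.left.base p = w := by
      haveI : Subsingleton (Over.mk r₀).left := inferInstanceAs (Subsingleton (PrimeSpectrum K₀))
      rw [← hz]
      show m₀.left (s p) = _
      exact congrArg m₀.left (Subsingleton.elim _ _)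
    let g₁ : T ⟶ J := (q ≫ sm) ≫ Jac.transl J (n₀ ≫ e.hom)⁻¹
    have hg₁ : g₁ ≫ Jac.transl J (n₀ ≫ e.hom) = q ≫ sm := by
      have := transl_inv_cancel (J := J) (n₀ ≫ e.hom)⁻¹
      rw [inv_inv] at this
      rw [Category.assoc, this, Category.comp_id]
    let g₀ : T ⟶ J₀ := g₁ ≫ e.inv
    have hg₀' : g₀ ≫ e.hom = g₁ := by rw [Category.assoc, e.inv_hom_id, Category.comp_id]
    obtain ⟨x, hxcl, hxi⟩ := FppfPic.isInvertibleCl_pull (PicF.XTmap f g₀) ξ.2.1
    haveI : Subsingleton T.left := inferInstanceAs (Subsingleton (PrimeSpectrum Ω))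
    have hok : (ModFun.PicDeg f 0).ok T x := (ok_iff f hdim 0 T x).2 ⟨hxi, fun s' => by
      rw [hxcl]
      exact (deg0At_iff f _ _).1 ((hasFibreDegreeZeroCl_iff f _).1 (rig0Pull f σ hσ g₀ ⟨ξ, hξ⟩).2 s')⟩
    have hψ : ψ.app T x trivial hok = g₁ := (hpt T x hok g₀ 1 Alb.isInvertibleCl_one (by
      rw [pullCl_one, _root_.mul_one]
      exact hxcl)).trans hg₀'
    have hQ := (hprod t g₀ x hxi hxcl).2 ⟨fun i => q ≫ π i, by
      rw [hg₀', hg₁, comp_prod]
      simp only [Category.assoc]⟩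
    have hmem := mem_jumpLocus f 0 ψ N t x hok hQ p
    rw [hψ] at hmem
    have hinj : ∀ a b : J.left, (Jac.transl J (n₀ ≫ e.hom)).left.base a = (Jac.transl J (n₀ ≫ e.hom)).left.base b →
        a = b := fun a b hab => by
      have h1 : ∀ y : J.left, (Jac.transl J (n₀ ≫ e.hom)⁻¹).left.base ((Jac.transl J (n₀ ≫ e.hom)).left.base y) = y :=
        fun y => congr($(transl_inv_cancel (J := J) (n₀ ≫ e.hom)).left y)
      rw [← h1 a, hab, h1]
    convert hmem using 1
    refine hinj _ _ ?_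
    rw [← hw, ← hqw]
    exact (congr($(hg₁).left p)).symm

end Groth.Agent.PicCurve.Ext

end
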