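import Mathlib

/-!
# The combinatorial part of Torelli's theorem

Two families of subsets `W n`, `W' n` of a commutative group, behaving like the images of the symmetric
powers of two curves in a common Jacobian and having the same theta divisor up to translation, have the
same first member up to translation and inversion.
-/

set_option autoImplicit false

open Set

namespace Groth.Agent.PicCurve.Torelli

/-- identities in commutative groups -/
local macro "cgroup" : tactic => `(tactic| (apply Additive.ofMul.injective; simp only [ofMul_mul, ofMul_inv, ofMul_zpow, ofMul_pow, ofMul_one, ofMul_div]; abel))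

variable {G : Type*} [CommGroup G] [TopologicalSpace G]

/-- the formal properties of the images of the symmetric powers of a curve -/
structure Sys (g : ℕ) (W : ℕ → Set G) (κ : G) : Prop where
  closed : ∀ n, IsClosed (W n)
  irred : ∀ n, IsIrreducible (W n)
  one_mem : ∀ n, (1 : G) ∈ W n
  mul_mem : ∀ {m n : ℕ} {u v : G}, u ∈ W m → v ∈ W n → u * v ∈ W (m + n)
  trans : ∀ {n r : ℕ}, n + r + 1 ≤ g → ∀ u : G, (∀ v ∈ W r, u * v ∈ W (n + r)) → u ∈ W n
  invol : ∀ u ∈ W (g - 1), κ * u⁻¹ ∈ W (g - 1)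
  residual : ∀ {r : ℕ}, r ≤ g - 2 → ∀ {u y x : G}, u ∈ W (r + 1) → y ∈ W (g - 1 - r) → x ∈ W 1 →
    u * y * x⁻¹ ∈ W (g - 1) → u * x⁻¹ ∈ W r ∨ y * x⁻¹ ∈ W (g - 2 - r) ∨ κ * (u * y)⁻¹ ∈ W (g - 2)
  infinite : (W 1).Infinite
  curve : ∀ Z : Set G, IsClosed Z → (W 1 ∩ Z).Infinite → W 1 ⊆ Z

/-- the divisors cut out on the curve by translates of the theta divisor -/
structure Supp (g : ℕ) (W : ℕ → Set G) (κ : G) : Prop where
  supp : ∀ c : G, (∃ q ∈ W 1, q * c⁻¹ ∉ W (g - 1)) → ∃ P : Fin g → G, (∀ i, P i ∈ W 1) ∧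
    ∏ i, P i = c * κ ∧ ∀ q ∈ W 1, (q * c⁻¹ ∈ W (g - 1) ↔ ∃ i, q = P i)
  closed_image : ∀ (c : G) (n : ℕ), IsClosed ((fun z : G => c * z ^ n) '' W 1)
  prod_mem : ∀ {ι : Type} (s : Finset ι) (P : ι → G), (∀ i ∈ s, P i ∈ W 1) → ∏ i ∈ s, P i ∈ W s.card

/-- continuity of translates of power maps -/
def ContPow (G : Type*) [CommGroup G] [TopologicalSpace G] : Prop :=
  ∀ (c : G) (n : ℤ), Continuous fun z : G => c * z ^ n

variable {g : ℕ} {W W' : ℕ → Set G} {κ κ' t : G}

theorem Sys.mono (S : Sys g W κ) {m n : ℕ} (h : m ≤ n) {u : G} (hu : u ∈ W m) : u ∈ W n := by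
  obtain ⟨d, rfl⟩ := Nat.exists_eq_add_of_le h
  simpa using S.mul_mem hu (S.one_mem d)

theorem ContPow.closed_preimage (hc : ContPow G) {Z : Set G} (hZ : IsClosed Z) (c : G) (n : ℤ) :
    IsClosed {z : G | c * z ^ n ∈ Z} := hZ.preimage (hc c n)

theorem ContPow.closed_mul (hc : ContPow G) {Z : Set G} (hZ : IsClosed Z) (c : G) : IsClosed {z : G | z * c ∈ Z} := by
  simpa [mul_comm] using hc.closed_preimage hZ c 1

theorem ContPow.closed_inv (hc : ContPow G) {Z : Set G} (hZ : IsClosed Z) (c : G) : IsClosed {z : G | c * z⁻¹ ∈ Z} := by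
  simpa using hc.closed_preimage hZ c (-1)

/-- inverting the members of a system gives a system -/
theorem Sys.neg (S : Sys g W κ) (hc : ContPow G) : Sys g (fun n => {z : G | z⁻¹ ∈ W n}) κ⁻¹ where
  closed n := by simpa using hc.closed_inv (S.closed n) 1
  irred n := by
    have e : ({z : G | z⁻¹ ∈ W n} : Set G) = (fun z => 1 * z ^ (-1 : ℤ)) '' W n := by
      ext z
      simp only [mem_setOf_eq, mem_image, one_mul, zpow_neg, zpow_one]
      exact ⟨fun h => ⟨_, h, inv_inv z⟩, fun ⟨w, hw, h⟩ => by rw [← h, inv_inv]; exact hw⟩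
    rw [e]
    exact (S.irred n).image _ (hc 1 (-1)).continuousOn
  one_mem n := by simpa using S.one_mem n
  mul_mem {m n u v} hu hv := by simpa [mul_comm] using S.mul_mem hu hv
  trans {n r} hnr u h := by
    refine S.trans hnr _ fun v hv => ?_
    simpa [mul_comm] using h v⁻¹ (by simpa using hv)
  invol u hu := by simpa [mul_comm] using S.invol _ hu
  residual {r} hr {u y x} hu hy hx h := by
    have := S.residual hr (u := u⁻¹) (y := y⁻¹) (x := x⁻¹) hu hy hx (by
      simp only [mem_setOf_eq] at h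
      convert h using 1
      cgroup)
    simp only [mem_setOf_eq]
    convert this using 3 <;> (simp [mul_comm])
  infinite := by
    have : ({z : G | z⁻¹ ∈ W 1}) = (fun z => z⁻¹) '' W 1 := by
      ext z
      exact ⟨fun h => ⟨_, h, inv_inv z⟩, fun ⟨w, hw, h⟩ => by simp [← h, hw]⟩
    rw [this]
    exact S.infinite.image inv_injective.injOn
  curve Z hZ hinf := by
    have hZ' : IsClosed {z : G | z⁻¹ ∈ Z} := by simpa using hc.closed_inv hZ 1
    have := S.curve _ hZ' ((hinf.image inv_injective.injOn).mono ?_)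
    · intro z hz
      simpa using this hz
    · rintro _ ⟨z, ⟨hz, hz'⟩, rfl⟩
      exact ⟨hz, by simpa using hz'⟩

section Minimal

variable (hc : ContPow G) (S : Sys g W κ) (Su : Supp g W κ) (S' : Sys g W' κ')
  (ht : ∀ z : G, z ∈ W' (g - 1) ↔ z * t ∈ W (g - 1)) {r : ℕ} {a : G}

/-- the divisor of the pair meets the curve properly -/
def Good (W W' : ℕ → Set G) (g : ℕ) (a x y : G) : Prop := ∃ q ∈ W 1, q * (a * x * y⁻¹)⁻¹ ∉ W' (g - 1)

include hc S' in
theorem isOpen_good (x : G) : IsOpen {y : G | Good W W' g a x y} := by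
  have : {y : G | Good W W' g a x y} = ⋃ q ∈ W 1, {y : G | y * (q * (a * x)⁻¹) ∈ W' (g - 1)}ᶜ := by
    ext y
    simp only [Good, mem_setOf_eq, mem_iUnion, mem_compl_iff, exists_prop]
    refine exists_congr fun q => and_congr_right fun _ => not_congr ?_
    rw [mul_inv_rev, inv_inv, mul_left_comm]
  rw [this]
  exact isOpen_biUnion fun q _ => (hc.closed_mul (S'.closed _) _).isOpen_compl

include hc S' in
theorem isOpen_good' (y : G) : IsOpen {x : G | Good W W' g a x y} := by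
  have : {x : G | Good W W' g a x y} = ⋃ q ∈ W 1, {x : G | q * a⁻¹ * y * x⁻¹ ∈ W' (g - 1)}ᶜ := by
    ext x
    simp only [Good, mem_setOf_eq, mem_iUnion, mem_compl_iff, exists_prop]
    refine exists_congr fun q => and_congr_right fun _ => not_congr ?_
    rw [show q * (a * x * y⁻¹)⁻¹ = q * a⁻¹ * y * x⁻¹ by cgroup]
  rw [this]
  exact isOpen_biUnion fun q _ => (hc.closed_inv (S'.closed _) _).isOpen_compl

include S' ht hc S in
/-- the theta divisor has no fixed part along a family of dimension `g - 1 - r` -/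
theorem not_forall_mem (hr : r ≤ g - 1) (hg : 2 ≤ g) (hmin : ∀ c : G, ¬ ∀ q ∈ W 1, (q * c)⁻¹ ∈ W' r) (e : G)
    (h : ∀ y ∈ W' (g - 1 - r), e * y⁻¹ ∈ W (g - 2)) : False := by
  refine hmin (e * t * κ⁻¹) fun w hw => S'.trans (n := r) (r := g - 1 - r) (by omega) _ fun y hy => ?_
  rw [show r + (g - 1 - r) = g - 1 by omega, ht]
  have h1 := S.mul_mem (h y hy) hw
  rw [show g - 2 + 1 = g - 1 by omega] at h1
  convert S.invol _ h1 using 1
  cgroup

include hc S Su S' ht in
theorem false_of_minimal (hr : 1 ≤ r) (hr2 : r ≤ g - 2)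
    (hsub : ∀ q ∈ W 1, q * a⁻¹ ∈ W' (r + 1))
    (hmin : ∀ c : G, ¬ ∀ q ∈ W 1, q * c⁻¹ ∈ W' r)
    (hmin' : ∀ c : G, ¬ ∀ q ∈ W 1, (q * c)⁻¹ ∈ W' r) : False := by
  classical
  let K : G := a * t⁻¹ * κ
  let B : G → Set G := fun x => {q | q ∈ W 1 ∧ q * (a * x)⁻¹ ∈ W' r}
  let S₂ : G → Set G := fun y => {q | q ∈ W 1 ∧ κ' * (q * a⁻¹ * y)⁻¹ ∈ W' (g - 2)}
  -- the divisor of a good pair
  have hdiv : ∀ x ∈ W' 1, ∀ y ∈ W' (g - 1 - r), Good W W' g a x y → ∃ P : Fin g → G,
      (∀ i, P i ∈ W 1) ∧ ∏ i, P i = K * x * y⁻¹ ∧ ∀ q, (∃ i, q = P i) ↔ q ∈ B x ∪ S₂ y := by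
    intro x hx y hy hgood
    obtain ⟨q₀, hq₀, hq₀'⟩ := hgood
    let c := a * x * y⁻¹ * t⁻¹
    have hct : ∀ q, q * (a * x * y⁻¹)⁻¹ ∈ W' (g - 1) ↔ q * c⁻¹ ∈ W (g - 1) := fun q => by
      rw [ht, show q * (a * x * y⁻¹)⁻¹ * t = q * c⁻¹ by simp only [c]; cgroup]
    obtain ⟨P, hP, hprod, hiff⟩ := Su.supp c ⟨q₀, hq₀, fun h => hq₀' ((hct q₀).2 h)⟩
    refine ⟨P, hP, by rw [hprod]; simp only [c, K]; cgroup, fun q => ?_⟩
    have e1 : ∀ q : G, q * (a * x * y⁻¹)⁻¹ = q * a⁻¹ * y * x⁻¹ := fun q => by cgroup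
    constructor
    · rintro ⟨i, rfl⟩
      have h1 := (hct (P i)).2 ((hiff _ (hP i)).2 ⟨i, rfl⟩)
      rw [e1] at h1
      rcases S'.residual hr2 (hsub _ (hP i)) hy hx h1 with h | h | h
      · exact Or.inl ⟨hP i, by convert h using 1; cgroup⟩
      · refine absurd ?_ hq₀'
        have h2 := S'.mul_mem (hsub _ hq₀) h
        rw [show r + 1 + (g - 2 - r) = g - 1 by omega] at h2
        rw [e1]
        convert h2 using 1
        cgroup
      · exact Or.inr ⟨hP i, h⟩
    · rintro (⟨hq, h⟩ | ⟨hq, h⟩) <;> refine (hiff q hq).1 ((hct q).1 ?_) <;> rw [e1]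
      · have h2 := S'.mul_mem h hy
        rw [show r + (g - 1 - r) = g - 1 by omega] at h2
        convert h2 using 1
        cgroup
      · have h2 := S'.mul_mem h hx
        rw [show g - 2 + 1 = g - 1 by omega] at h2
        convert S'.invol _ h2 using 1
        cgroup
  -- every point has good partners
  have hA : ∀ x ∈ W' 1, ∃ y ∈ W' (g - 1 - r), Good W W' g a x y := by
    intro x _
    by_contra h
    push Not at h
    refine hmin (a * x) fun q hq => S'.trans (n := r) (r := g - 1 - r) (by omega) _ fun y hy => ?_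
    have h1 := h y hy
    simp only [Good, not_exists, not_and, not_not] at h1
    rw [show r + (g - 1 - r) = g - 1 by omega]
    convert h1 q hq using 1
    cgroup
  -- a closed set containing the good partners contains everything
  have hdense : ∀ x ∈ W' 1, ∀ Z : Set G, IsClosed Z →
      (∀ y ∈ W' (g - 1 - r), Good W W' g a x y → y ∈ Z) → W' (g - 1 - r) ⊆ Z := by
    intro x hx Z hZ h y hy
    by_contra hyZ
    obtain ⟨y', hy', hg', hnot⟩ := (S'.irred (g - 1 - r)).2 _ Zᶜ (isOpen_good hc S' x) hZ.isOpen_compl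
      (let ⟨y₀, hy₀, hg₀⟩ := hA x hx; ⟨y₀, hy₀, hg₀⟩) ⟨y, hy, hyZ⟩
    exact hnot (h y' hy' hg')
  have hnotall : ∀ x ∈ W' 1, ∀ e : G, ¬ ∀ y ∈ W' (g - 1 - r), Good W W' g a x y → e * y⁻¹ ∈ W (g - 2) :=
    fun x hx e h => not_forall_mem hc S S' ht (by omega) (by omega) hmin' e
      (hdense x hx _ (hc.closed_inv (S.closed _) e) h)
  -- at most one point in B
  have hB : ∀ x ∈ W' 1, ∀ q ∈ B x, ∀ q' ∈ B x, q = q' := by
    intro x hx q hq q' hq'
    by_contra hne
    refine hnotall x hx (K * x * (q * q')⁻¹) fun y hy hgood => ?_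
    obtain ⟨P, hP, hprod, hiff⟩ := hdiv x hx y hy hgood
    obtain ⟨i, rfl⟩ := (hiff q).2 (Or.inl hq)
    obtain ⟨l, rfl⟩ := (hiff q').2 (Or.inl hq')
    have hil : i ≠ l := fun h => hne (by rw [h])
    have h1 := Su.prod_mem (Finset.univ \ {i, l}) P fun m _ => hP m
    rw [Finset.card_univ_sdiff, Fintype.card_fin, Finset.card_pair hil] at h1
    have h2 := Finset.prod_sdiff (f := P) (Finset.subset_univ {i, l})
    rw [Finset.prod_pair hil, hprod] at h2
    rw [show K * x * (P i * P l)⁻¹ * y⁻¹ = (∏ m ∈ Finset.univ \ {i, l}, P m) by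
      rw [mul_right_comm, ← h2, mul_inv_cancel_right]]
    exact h1
  -- the pencil attached to a good partner
  have hpair : ∀ y ∈ W' (g - 1 - r), (∃ x ∈ W' 1, Good W W' g a x y) →
      ∃ m : ℕ, 2 ≤ m ∧ m ≤ g ∧ ∃ F ∈ W (g - m), ∀ x ∈ W' 1, ∃ Q ∈ B x, Q ^ m * F * y = K * x := by
    intro y hy hex
    obtain ⟨x₀, hx₀, hgood₀⟩ := hex
    have hS₂ : (S₂ y).Finite := by
      obtain ⟨P, hP, -, hiff⟩ := hdiv x₀ hx₀ y hy hgood₀
      exact (Set.finite_range P).subset fun q hq => let ⟨i, hi⟩ := (hiff q).2 (Or.inr hq); ⟨i, hi.symm⟩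
    haveI := hS₂.to_subtype
    let X : Set G := {x | x ∈ W' 1 ∧ Good W W' g a x y}
    have hX : X.Infinite := by
      intro hfin
      have hout : (W' 1 ∩ {x | Good W W' g a x y}ᶜ).Infinite := by
        refine (S'.infinite.sdiff hfin).mono fun x hx => ⟨hx.1, fun h => hx.2 ⟨hx.1, h⟩⟩
      exact S'.curve _ (isOpen_good' hc S' y).isClosed_compl hout hx₀ hgood₀
    -- classify by the part of the divisor outside B
    have hcls : ∀ x : X, ∃ φ : Fin g → Option (S₂ y),
        (∃ Q ∈ B x.1, Q ^ (Finset.univ.filter fun i => φ i = none).card *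
          (∏ i ∈ Finset.univ.filter (fun i => ¬ φ i = none), (φ i).elim 1 Subtype.val) = K * x.1 * y⁻¹) ∨
        ((∀ i, φ i ≠ none) ∧ ∏ i, (φ i).elim 1 Subtype.val = K * x.1 * y⁻¹) := by
      rintro ⟨x, hx, hgood⟩
      obtain ⟨P, hP, hprod, hiff⟩ := hdiv x hx y hy hgood
      let φ : Fin g → Option (S₂ y) := fun i =>
        if h : P i ∈ B x then none else some ⟨P i, ((hiff _).1 ⟨i, rfl⟩).resolve_left h⟩
      have hnone : ∀ i, φ i = none ↔ P i ∈ B x := fun i => by
        simp only [φ]; split <;> simp [*]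
      have hval : ∀ i, ¬ φ i = none → (φ i).elim 1 Subtype.val = P i := fun i hi => by
        simp only [φ] at hi ⊢; by_cases hh : P i ∈ B x <;> simp_all
      refine ⟨φ, ?_⟩
      by_cases hQ : ∃ i, P i ∈ B x
      · obtain ⟨i₀, hi₀⟩ := hQ
        refine Or.inl ⟨P i₀, hi₀, ?_⟩
        rw [← hprod, ← Finset.prod_filter_mul_prod_filter_not Finset.univ (fun i => φ i = none) P]
        congr 1
        · rw [← Finset.prod_const]
          exact Finset.prod_congr rfl fun i hi => hB x hx _ hi₀ _ ((hnone i).1 (Finset.mem_filter.1 hi).2)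
        · exact Finset.prod_congr rfl fun i hi => hval i (Finset.mem_filter.1 hi).2
      · push Not at hQ
        refine Or.inr ⟨fun i h => hQ i ((hnone i).1 h), ?_⟩
        rw [← hprod]
        exact Finset.prod_congr rfl fun i _ => hval i fun h => hQ i ((hnone i).1 h)
    choose Φ hΦ using hcls
    haveI : Infinite X := hX.to_subtype
    obtain ⟨φ, hφ⟩ := Finite.exists_infinite_fiber Φ
    rw [Set.infinite_coe_iff] at hφ
    let m := (Finset.univ.filter fun i => φ i = none).card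
    let F := ∏ i ∈ Finset.univ.filter (fun i => ¬ φ i = none), (φ i).elim 1 Subtype.val
    by_cases hm0 : m = 0
    · -- finitely many such points
      exfalso
      refine hφ ((Set.finite_singleton (K⁻¹ * F * y)).preimage Subtype.val_injective.injOn |>.subset ?_)
      intro x hx
      have h1 := hΦ x
      rw [show Φ x = φ from hx] at h1
      simp only [Set.mem_preimage, Set.mem_singleton_iff]
      rcases h1 with ⟨Q, -, h1⟩ | ⟨hall, h1⟩
      · change Q ^ m * F = _ at h1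
        rw [hm0, pow_zero, one_mul] at h1
        rw [h1]; cgroup
      · have : F = ∏ i, (φ i).elim 1 Subtype.val := by
          simp only [F]
          rw [Finset.filter_true_of_mem fun i _ => hall i]
        rw [this, h1]; cgroup
    let ψ : G → G := fun Q => K⁻¹ * (F * y) * Q ^ m
    have hψ : ∀ x : X, Φ x = φ → ∃ Q ∈ B x.1, x.1 = ψ Q := by
      intro x hx
      have h1 := hΦ x
      rw [hx] at h1
      rcases h1 with ⟨Q, hQ, h1⟩ | ⟨hall, -⟩
      · change Q ^ m * F = _ at h1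
        refine ⟨Q, hQ, ?_⟩
        simp only [ψ]
        rw [show K⁻¹ * (F * y) * Q ^ m = K⁻¹ * y * (Q ^ m * F) by cgroup, h1]
        cgroup
      · refine absurd ?_ hm0
        simp only [m, Finset.card_eq_zero, Finset.filter_eq_empty_iff]
        exact fun i _ => hall i
    -- all points of W 1 belong to the class
    let Z : Set G := {Q | Q * (a * ψ Q)⁻¹ ∈ W' r}
    have hZ : IsClosed Z := by
      have : Z = {Q | (a * (K⁻¹ * (F * y)))⁻¹ * Q ^ (1 - (m : ℤ)) ∈ W' r} := by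
        ext Q
        simp only [Z, ψ, mem_setOf_eq]
        rw [show Q * (a * (K⁻¹ * (F * y) * Q ^ m))⁻¹ = (a * (K⁻¹ * (F * y)))⁻¹ * Q ^ (1 - (m : ℤ)) by
          rw [zpow_sub, zpow_one, zpow_natCast]; cgroup]
      rw [this]
      exact hc.closed_preimage (S'.closed r) _ _
    have himg : ((W' 1) ∩ ψ '' (W 1 ∩ Z)).Infinite := by
      refine (hφ.image Subtype.val_injective.injOn).mono ?_
      rintro _ ⟨x, hx, rfl⟩
      obtain ⟨Q, hQ, hxQ⟩ := hψ x hx
      exact ⟨x.2.1, Q, ⟨hQ.1, by simp only [Z, mem_setOf_eq, ← hxQ]; exact hQ.2⟩, hxQ.symm⟩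
    have hZall : W 1 ⊆ Z := S.curve Z hZ fun hfin => himg ((hfin.image ψ).subset Set.inter_subset_right)
    have hsurj : W' 1 ⊆ ψ '' W 1 := S'.curve _ (Su.closed_image _ m)
      (himg.mono fun x hx => ⟨hx.1, Set.image_mono Set.inter_subset_left hx.2⟩)
    have hFm : F ∈ W (g - m) := by
      have h1 := Su.prod_mem (Finset.univ.filter (fun i => ¬ φ i = none)) (fun i => (φ i).elim 1 Subtype.val)
        fun i hi => by
          obtain ⟨v, hv⟩ := Option.ne_none_iff_exists'.1 (Finset.mem_filter.1 hi).2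
          simp only [hv, Option.elim]
          exact v.2.1
      have h2 := Finset.card_filter_add_card_filter_not (s := (Finset.univ : Finset (Fin g))) (fun i => φ i = none)
      rw [Finset.card_univ, Fintype.card_fin] at h2
      rwa [show (Finset.univ.filter (fun i => ¬ φ i = none)).card = g - m by omega] at h1
    have hmg : m ≤ g := (Finset.card_le_univ _).trans_eq (Fintype.card_fin g)
    have heq : ∀ x ∈ W' 1, ∃ Q ∈ B x, Q ^ m * F * y = K * x := fun x hx => by
      obtain ⟨Q, hQ, rfl⟩ := hsurj hx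
      refine ⟨Q, ⟨hQ, hZall hQ⟩, ?_⟩
      simp only [ψ]; cgroup
    refine ⟨m, ?_, hmg, F, hFm, heq⟩
    -- multiplicity one makes the curves translates
    by_contra hm2
    have hm1 : m = 1 := by omega
    let d := K⁻¹ * (F * y)
    refine hmin d⁻¹ fun q hq => S'.mono hr ?_
    rw [inv_inv]
    refine S.curve {z | z * d ∈ W' 1} (hc.closed_mul (S'.closed 1) d) ?_ hq
    refine ((S'.infinite.image (f := fun x => x * d⁻¹) (mul_left_injective d⁻¹).injOn)).mono ?_
    rintro _ ⟨x, hx, rfl⟩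
    obtain ⟨Q, hQ, h1⟩ := heq x hx
    rw [hm1, pow_one] at h1
    refine ⟨?_, by simpa using hx⟩
    have : x * d⁻¹ = Q := by
      rw [show x * d⁻¹ = K * x * (F * y)⁻¹ by simp only [d]; cgroup, ← h1]
      cgroup
    show x * d⁻¹ ∈ W 1
    rw [this]
    exact hQ.1
  -- conclusion
  obtain ⟨x₁, hx₁⟩ := S'.infinite.nonempty
  obtain ⟨y₁, hy₁, hgood₁⟩ := hA x₁ hx₁
  obtain ⟨_, _, _, _, _, hne⟩ := hpair y₁ hy₁ ⟨x₁, hx₁, hgood₁⟩
  obtain ⟨Q₁, hQ₁, -⟩ := hne x₁ hx₁
  let e : ℕ → G := fun m => K * x₁ * (Q₁ ^ m)⁻¹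
  have hcov : ∀ y ∈ W' (g - 1 - r), Good W W' g a x₁ y →
      y ∈ ⋃ m ∈ Finset.range (g + 1), {y | e m * y⁻¹ ∈ W (g - 2)} := by
    intro y hy hgood
    obtain ⟨m, hm2, hmg, F, hF, heq⟩ := hpair y hy ⟨x₁, hx₁, hgood⟩
    obtain ⟨Q, hQ, h1⟩ := heq x₁ hx₁
    obtain rfl := hB x₁ hx₁ Q hQ Q₁ hQ₁
    refine Set.mem_iUnion₂.2 ⟨m, Finset.mem_range.2 (by omega), ?_⟩
    show e m * y⁻¹ ∈ W (g - 2)
    rw [show e m * y⁻¹ = F by simp only [e, ← h1]; cgroup]
    exact S.mono (by omega) hF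
  have hsub' := hdense x₁ hx₁ _ (isClosed_biUnion_finset fun m _ => hc.closed_inv (S.closed _) (e m)) hcov
  obtain ⟨Z, hZ, hZsub⟩ : ∃ m ∈ Finset.range (g + 1), W' (g - 1 - r) ⊆ {y | e m * y⁻¹ ∈ W (g - 2)} := by
    have h := isIrreducible_iff_sUnion_isClosed.1 (S'.irred (g - 1 - r))
      ((Finset.range (g + 1)).image fun m => {y | e m * y⁻¹ ∈ W (g - 2)}) (fun z hz => by
        obtain ⟨m, -, rfl⟩ := Finset.mem_image.1 hz
        exact hc.closed_inv (S.closed _) (e m)) (by simpa using hsub')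
    obtain ⟨z, hz, hsub⟩ := h
    obtain ⟨m, hm, rfl⟩ := Finset.mem_image.1 hz
    exact ⟨m, hm, hsub⟩
  exact not_forall_mem hc S S' ht (by omega) (by omega) hmin' (e Z) hZsub

end Minimal

/-- systems with the same theta divisor have the same curve up to translation and inversion -/
theorem exists_eq_translate (hc : ContPow G) (hg : 2 ≤ g) (S : Sys g W κ) (Su : Supp g W κ) (S' : Sys g W' κ')
    (ht : ∀ z : G, z ∈ W' (g - 1) ↔ z * t ∈ W (g - 1)) :
    ∃ c : G, (∀ q, q ∈ W 1 ↔ q * c⁻¹ ∈ W' 1) ∨ (∀ q, q ∈ W 1 ↔ (q * c)⁻¹ ∈ W' 1) := by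
  classical
  let Ws : ℕ → Set G := fun n => {z : G | z⁻¹ ∈ W' n}
  have S'' : Sys g Ws κ'⁻¹ := S'.neg hc
  have ht'' : ∀ z : G, z ∈ Ws (g - 1) ↔ z * (κ' * t) ∈ W (g - 1) := by
    intro z
    show z⁻¹ ∈ W' (g - 1) ↔ _
    rw [← mul_assoc, ← ht]
    exact ⟨fun h => by simpa [mul_comm] using S'.invol _ h, fun h => by simpa [mul_comm, mul_assoc] using S'.invol _ h⟩
  let P : ℕ → Prop := fun r => ∃ c : G, (∀ q ∈ W 1, q * c⁻¹ ∈ W' (r + 1)) ∨ (∀ q ∈ W 1, (q * c)⁻¹ ∈ W' (r + 1))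
  have hex : P (g - 2) := by
    refine ⟨t, Or.inl fun q hq => ?_⟩
    rw [show g - 2 + 1 = g - 1 by omega, ht, inv_mul_cancel_right]
    exact S.mono (by omega) hq
  have hfind : ∃ r, P r := ⟨_, hex⟩
  have hr0 : Nat.find hfind = 0 := by
    by_contra hne
    obtain ⟨r, hr⟩ := Nat.exists_eq_succ_of_ne_zero hne
    have hle : r + 1 ≤ g - 2 := by have := Nat.find_le (h := hfind) hex; omega
    have hnot := Nat.find_min hfind (show r < Nat.find hfind by omega)
    have hspec := Nat.find_spec hfind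
    rw [hr] at hspec
    obtain ⟨c, h | h⟩ := hspec
    · exact false_of_minimal hc S Su S' ht (r := r + 1) (by omega) hle h
        (fun d hd => hnot ⟨d, Or.inl hd⟩) (fun d hd => hnot ⟨d, Or.inr hd⟩)
    · exact false_of_minimal hc S Su S'' ht'' (r := r + 1) (a := c⁻¹) (by omega) hle
        (fun q hq => by show (q * c⁻¹⁻¹)⁻¹ ∈ W' _; rw [inv_inv]; exact h q hq)
        (fun d hd => hnot ⟨d⁻¹, Or.inr fun q hq => hd q hq⟩)
        (fun d hd => hnot ⟨d⁻¹, Or.inl fun q hq => by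
          have := hd q hq
          simp only [Ws, mem_setOf_eq, inv_inv] at this ⊢
          exact this⟩)
  have hspec := Nat.find_spec hfind
  rw [hr0] at hspec
  obtain ⟨c, h | h⟩ := hspec
  · refine ⟨c, Or.inl fun q => ⟨h q, fun hq => ?_⟩⟩
    have := S'.curve {z | z * c ∈ W 1} (hc.closed_mul (S.closed 1) c)
      ((S.infinite.image (f := fun z => z * c⁻¹) (mul_left_injective c⁻¹).injOn).mono
        (by rintro _ ⟨z, hz, rfl⟩; exact ⟨h z hz, by simpa using hz⟩)) hq
    simpa using this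
  · refine ⟨c, Or.inr fun q => ⟨h q, fun hq => ?_⟩⟩
    have := S'.curve {z | c⁻¹ * z⁻¹ ∈ W 1} (hc.closed_inv (S.closed 1) c⁻¹)
      ((S.infinite.image (f := fun z => (z * c)⁻¹)
        ((inv_injective.comp (mul_left_injective c))).injOn).mono
        (by rintro _ ⟨z, hz, rfl⟩; exact ⟨h z hz, by simpa [mul_comm] using hz⟩)) hq
    simpa [mul_comm] using this

end Groth.Agent.PicCurve.Torelli
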